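import Cfsg.Agent.Lib.CIT.Consumers.EppoList
import Cfsg.Agent.Lib.Kazarin.Radical
import Cfsg.Agent.Lib.Linear.PSLSmall

/-!
The groups in which every element has prime-power order have at most four prime divisors.
-/

set_option autoImplicit false
set_option linter.style.haveILetI false

namespace Cfsg.Lib.CIT

open Subgroup
open Cfsg.Lib

universe u

variable {G : Type u} [Group G] [Finite G]

theorem mem_of_prime_dvd_prod {q : ℕ} (hq : q.Prime) {L : List ℕ} (hL : ∀ x ∈ L, x.Prime) (h : q ∣ L.prod) :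
    q ∈ L := by
  obtain ⟨a, ha, hd⟩ := hq.prime.dvd_prod_iff.1 h
  rwa [(Nat.prime_dvd_prime_iff_eq hq (hL a ha)).1 hd]

theorem not_isPrimePow_of_two_three {e : ℕ} (h2 : 2 ∣ e) {t : ℕ} (ht : t.Prime) (ht2 : t ≠ 2) (htd : t ∣ e) :
    ¬ (e = 1 ∨ IsPrimePow e) := by
  rintro (rfl | h)
  · exact ht.not_dvd_one htd
  · obtain ⟨a, rfl⟩ := eq_prime_pow_of_dvd Nat.prime_two h2 h
    exact ht2 ((Nat.prime_dvd_prime_iff_eq ht Nat.prime_two).1 (ht.dvd_of_dvd_pow htd))

/-- The structure of a non-solvable group with all element orders prime powers. -/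
structure EppoShape (G : Type u) [Group G] (R : Subgroup G) [R.Normal] (p : ℕ) (M : Subgroup (G ⧸ R)) :
    Prop where
  prime : p.Prime
  isP : IsPGroup p R
  normal : M.Normal
  simple : IsSimpleGroup M
  nonab : ¬ IsMulCommutative M

theorem IsEppo.exists_shape (hG : IsEppo G) (hns : ¬ Group.IsSolvable G) :
    ∃ (R : Subgroup G) (_ : R.Normal) (p : ℕ) (M : Subgroup (G ⧸ R)), EppoShape G R p M := by
  obtain ⟨R, hRn, hRs, hR⟩ := Kazarin.exists_radical G
  haveI := hRn
  obtain ⟨⟨p, hp, hRp⟩, ⟨M, hMn, hMs, hMc, -⟩, -⟩ := Cfsg.Agent.S3992.result hns hG R hRs hR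
  exact ⟨R, hRn, p, M, ⟨hp, hRp, hMn, hMs, hMc⟩⟩

omit [Finite G] in
theorem not_solvable_of_simple {M : Type u} [Group M] [IsSimpleGroup M] (h : ¬ IsMulCommutative M) :
    ¬ Group.IsSolvable M := fun hs => h ⟨⟨fun a b => IsSimpleGroup.comm_iff_isSolvable.2 hs a b⟩⟩

/-- A pair of elements as needed for `radical_eq_bot`. -/
theorem IsEppo.exists_pair (hG : IsEppo G) {n : ℕ} {M : Subgroup G} (hM : Nat.card M = n) {r s : ℕ}
    [hr : Fact r.Prime] [hs : Fact s.Prime] (h1 : r ∣ n) (h2 : ¬ r ^ 2 ∣ n)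
    (hu : ∀ a < r, a ∣ r - 1 → n / (r * a) % r = 1 → s ∣ a) :
    ∃ (P : Subgroup G) (x : G), Nat.card P = r ∧ orderOf x = s ∧ x ∈ normalizer (P : Set G) := by
  obtain ⟨P, a, hP, haN, ha, -, hmod⟩ := hG.exists_torus hM h1 h2
  have hlt : a < r := by
    have := Nat.le_of_dvd (Nat.sub_pos_of_lt hr.out.one_lt) ha
    have := hr.out.pos; omega
  obtain ⟨⟨x, hx⟩, hxo⟩ := exists_prime_orderOf_dvd_card'
    (G := ↥(normalizer ((P : Subgroup M) : Set M))) s (haN ▸ (hu a hlt ha hmod).mul_left r)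
  rw [Subgroup.orderOf_mk] at hxo
  refine ⟨(P : Subgroup M).map M.subtype, x, by rw [Core.card_map_subtype, hP], ?_, mem_normalizer_fintype ?_⟩
  · rw [orderOf_coe]; exact hxo
  · rintro _ ⟨y, hy, rfl⟩
    exact ⟨x * y * x⁻¹, (mem_normalizer_iff.1 hx y).1 hy, rfl⟩

/-- The conclusion for four prime divisors. -/
def EppoFourList (G : Type u) [Group G] : Prop :=
  (∃ (F : Type) (_ : Field F) (_ : Fintype F), Fintype.card F = 4 ∧
      Nonempty (G ≃* Matrix.ProjectiveSpecialLinearGroup (Fin 3) F)) ∨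
    (∃ (N : Subgroup G) (_ : N.Normal), IsPGroup 2 ↥N ∧
      ∃ (F : Type) (_ : Field F) (_ : Fintype F),
        (Fintype.card F = 8 ∧ Nonempty (G ⧸ N ≃* ↥(Cfsg.Lie.Sz F 4))) ∨
          (Fintype.card F = 32 ∧ Nonempty (G ⧸ N ≃* ↥(Cfsg.Lie.Sz F 8))))

theorem EppoShape.prime_mem {R : Subgroup G} [R.Normal] {p : ℕ} {M : Subgroup (G ⧸ R)}
    (h : EppoShape G R p M) (hG : IsEppo G) {n r s : ℕ} [hr : Fact r.Prime] [hs : Fact s.Prime]
    (hM : Nat.card M = n) (L : List ℕ) (hLp : ∀ x ∈ L, x.Prime) (hL : n = L.prod) (h1 : r ∣ n)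
    (h2 : ¬ r ^ 2 ∣ n) (hrs : r ≠ s) (hsn : s ∣ n)
    (hu : ∀ a < r, a ∣ r - 1 → n / (r * a) % r = 1 → s ∣ a) {q : ℕ} (hq : q.Prime) (hd : q ∣ Nat.card G) :
    q ∈ L.toFinset := by
  haveI := h.normal
  haveI := h.simple
  have key : ∀ t : ℕ, t.Prime → t ∣ n → t ∈ L.toFinset := fun t ht htn =>
    List.mem_toFinset.2 (mem_of_prime_dvd_prod ht hLp (hL ▸ htn))
  rw [Subgroup.card_eq_card_quotient_mul_card_subgroup R] at hd
  rcases hq.dvd_mul.1 hd with hd | hd
  · exact key q hq (hM ▸ (hG.quotient R).dvd_card_of_dvd (not_solvable_of_simple h.nonab) hq hd)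
  · by_contra hqL
    haveI := Fact.mk h.prime
    have hpq : p = q := by
      obtain ⟨k, hk⟩ := h.isP.exists_card_eq
      rw [hk] at hd
      exact ((Nat.prime_dvd_prime_iff_eq hq h.prime).1 (hq.dvd_of_dvd_pow hd)).symm
    subst hpq
    obtain ⟨P, x, hP, hx, hxn⟩ := (hG.quotient R).exists_pair hM h1 h2 hu
    rw [hG.radical_eq_bot h.isP (fun e => hqL (e ▸ key r hr.out h1)) (fun e => hqL (e ▸ key s hs.out hsn))
      hrs hP hx hxn, Subgroup.card_bot] at hd
    exact hq.not_dvd_one hd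

theorem card_psl_three_four {F : Type} [Field F] [Fintype F] (hF : Fintype.card F = 4) :
    Nat.card (Matrix.ProjectiveSpecialLinearGroup (Fin 3) F) = 20160 := Cfsg.Lib.Concrete.MTwentyOne.card_psl34 F hF

theorem card_lie_sz {F : Type} [Field F] [Fintype F] {m : ℕ} (hm : 1 ≤ m)
    (hF : Fintype.card F = 2 ^ (2 * m + 1)) :
    Nat.card ↥(Cfsg.Lie.Sz F (2 ^ (m + 1))) =
      (2 ^ (2 * m + 1)) ^ 2 * ((2 ^ (2 * m + 1)) ^ 2 + 1) * (2 ^ (2 * m + 1) - 1) := by
  obtain ⟨f, -⟩ := Cfsg.Lib.Linear.Suz.exists_lie_equiv (F := F) (m := m) ⟨hm, hF⟩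
  rw [← Nat.card_congr f.toEquiv, Cfsg.Agent.S0324.result hm hF]

theorem eppoFour (hcit : CITListHolds.{u}) (hsz : SuzukiIso.{u}) (hG : IsEppo G) :
    (Nat.card G).primeFactors.card ≤ 4 ∧ ((Nat.card G).primeFactors.card = 4 → EppoFourList G) := by
  classical
  by_cases hs : Group.IsSolvable G
  · haveI := hs
    have h2 := Cfsg.Agent.S1475.result (G := G) fun g => (em (g = 1)).symm.imp_left (hG g)
    exact ⟨by omega, fun h => by omega⟩
  obtain ⟨R, hRn, p, M, hsh⟩ := hG.exists_shape hs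
  haveI := hsh.normal
  haveI := hsh.simple
  haveI := Fact.mk hsh.prime
  haveI : Fact (Nat.Prime 2) := ⟨Nat.prime_two⟩
  haveI : Fact (Nat.Prime 3) := ⟨Nat.prime_three⟩
  haveI : Fact (Nat.Prime 5) := ⟨by norm_num⟩
  haveI : Fact (Nat.Prime 7) := ⟨by norm_num⟩
  haveI : Fact (Nat.Prime 17) := ⟨by norm_num⟩
  haveI : Fact (Nat.Prime 31) := ⟨by norm_num⟩
  haveI : Fact (Nat.Prime 41) := ⟨by norm_num⟩
  have hH := hG.quotient R
  have bound : ∀ (n r s : ℕ) [Fact r.Prime] [Fact s.Prime] (L : List ℕ), Nat.card M = n → (∀ x ∈ L, x.Prime) →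
      n = L.prod → r ∣ n → ¬ r ^ 2 ∣ n → r ≠ s → s ∣ n →
      (∀ a < r, a ∣ r - 1 → n / (r * a) % r = 1 → s ∣ a) → (Nat.card G).primeFactors.card ≤ L.toFinset.card :=
    fun n r s _ _ L hM hLp hL h1 h2 hrs hsn hu => Finset.card_le_card fun q hq =>
      hsh.prime_mem hG hM L hLp hL h1 h2 hrs hsn hu (Nat.prime_of_mem_primeFactors hq)
        (Nat.dvd_of_mem_primeFactors hq)
  have three : (Nat.card G).primeFactors.card ≤ 3 →
      (Nat.card G).primeFactors.card ≤ 4 ∧ ((Nat.card G).primeFactors.card = 4 → EppoFourList G) :=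
    fun h => ⟨by omega, fun h' => by omega⟩
  rcases eppoList hcit hsz hsh.nonab (hH.subgroup M) with he | ⟨F, i, j, hF, ⟨e⟩⟩ | ⟨F, i, j, hF, ⟨e⟩⟩ | ⟨F, i, j, hF⟩
  · obtain ⟨e⟩ := he
    have hc : Nat.card M = 360 := by
      rw [Nat.card_congr e.toEquiv, nat_card_alternatingGroup, Nat.card_eq_fintype_card, Fintype.card_fin]; decide
    exact three ((bound 360 5 2 [2, 2, 2, 3, 3, 5] hc (by simp +decide) (by norm_num) (by norm_num) (by norm_num)
      (by norm_num) (by norm_num) (by decide)).trans (by decide))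
  · have hc := Cfsg.Lib.Linear.Two.card_PSL_two (F := F)
    rw [← Nat.card_congr e.toEquiv] at hc
    simp only [Finset.mem_insert, Finset.mem_singleton] at hF
    rcases hF with hF | hF | hF | hF <;> rw [hF] at hc <;> norm_num at hc
    · exact three ((bound 60 5 2 [2, 2, 3, 5] hc (by simp +decide) (by norm_num) (by norm_num) (by norm_num)
        (by norm_num) (by norm_num) (by decide)).trans (by decide))
    · exact three ((bound 168 7 3 [2, 2, 2, 3, 7] (by omega) (by simp +decide) (by norm_num) (by norm_num) (by norm_num)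
        (by norm_num) (by norm_num) (by decide)).trans (by decide))
    · exact three ((bound 504 7 2 [2, 2, 2, 3, 3, 7] hc (by simp +decide) (by norm_num) (by norm_num) (by norm_num)
        (by norm_num) (by norm_num) (by decide)).trans (by decide))
    · exact three ((bound 2448 17 2 [2, 2, 2, 2, 3, 3, 17] (by omega) (by simp +decide) (by norm_num) (by norm_num)
        (by norm_num) (by norm_num) (by norm_num) (by decide)).trans (by decide))
  · have hc : Nat.card M = 20160 := (Nat.card_congr e.toEquiv).trans (card_psl_three_four hF)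
    refine ⟨(bound 20160 7 3 [2, 2, 2, 2, 2, 2, 3, 3, 5, 7] hc (by simp +decide) (by norm_num) (by norm_num)
      (by norm_num) (by norm_num) (by norm_num) (by decide)).trans (by decide), fun _ => Or.inl ⟨F, i, j, hF, ?_⟩⟩
    have hMt : M = ⊤ := hH.index_eq_one hc (r := 7) (s := 5) (by norm_num) (by norm_num) (by norm_num)
      (by norm_num) (by norm_num) (by norm_num) fun a hlt had _ hmod b hb hbd hab hpp => by
        have ha : a = 3 := (by decide : ∀ a < 7, a ∣ 7 - 1 → 20160 / (7 * a) % 7 = 1 → a = 3) a hlt had hmod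
        subst ha
        rcases (by decide : ∀ b < 7, b ∣ 7 - 1 → 3 ∣ b → b = 3 ∨ (2 ∣ b ∧ 3 ∣ b)) b hb hbd hab with h | ⟨h, h'⟩
        · exact h
        · exact absurd hpp (not_isPrimePow_of_two_three h Nat.prime_three (by norm_num) h')
    have hR : R = ⊥ := by
      by_cases hp : p ≠ 7 ∧ p ≠ 3
      · obtain ⟨P, x, hP, hx, hxn⟩ := hH.exists_pair hc (r := 7) (s := 3) (by norm_num) (by norm_num) (by decide)
        exact hG.radical_eq_bot hsh.isP hp.1 hp.2 (by norm_num) hP hx hxn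
      · obtain ⟨P, x, hP, hx, hxn⟩ := hH.exists_pair hc (r := 5) (s := 2) (by norm_num) (by norm_num) (by decide)
        exact hG.radical_eq_bot hsh.isP (by omega) (by omega) (by norm_num) hP hx hxn
    exact ⟨((QuotientGroup.quotientBot.symm.trans (QuotientGroup.quotientMulEquivOfEq hR.symm)).trans
      ((Subgroup.topEquiv.symm).trans (MulEquiv.subgroupCongr hMt.symm))).trans e⟩
  · have fin : M = ⊤ → Nonempty (M ≃* G ⧸ R) := fun h =>
      ⟨(MulEquiv.subgroupCongr h).trans Subgroup.topEquiv⟩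
    rcases hF with ⟨hF, ⟨e⟩⟩ | ⟨hF, ⟨e⟩⟩
    · have hc : Nat.card M = 29120 :=
        (Nat.card_congr e.toEquiv).trans ((card_lie_sz (F := F) (m := 1) le_rfl (hF.trans (by norm_num))).trans
          (by norm_num))
      refine ⟨(bound 29120 7 2 [2, 2, 2, 2, 2, 2, 5, 7, 13] hc (by simp +decide) (by norm_num) (by norm_num)
        (by norm_num) (by norm_num) (by norm_num) (by decide)).trans (by decide), fun _ => ?_⟩
      have hMt : M = ⊤ := hH.index_eq_one hc (r := 7) (s := 5) (by norm_num) (by norm_num) (by norm_num)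
        (by norm_num) (by norm_num) (by norm_num) fun a hlt had _ hmod b hb hbd hab hpp => by
          have ha : a = 2 := (by decide : ∀ a < 7, a ∣ 7 - 1 → 29120 / (7 * a) % 7 = 1 → a = 2) a hlt had hmod
          subst ha
          rcases (by decide : ∀ b < 7, b ∣ 7 - 1 → 2 ∣ b → b = 2 ∨ (2 ∣ b ∧ 3 ∣ b)) b hb hbd hab with h | ⟨h, h'⟩
          · exact h
          · exact absurd hpp (not_isPrimePow_of_two_three h Nat.prime_three (by norm_num) h')
      refine Or.inr ⟨R, hRn, ?_, F, i, j, Or.inl ⟨hF, (fin hMt).map fun f => f.symm.trans e⟩⟩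
      by_cases hp2 : p = 2
      · exact hp2 ▸ hsh.isP
      suffices hR : R = ⊥ by rw [hR]; exact IsPGroup.of_bot
      by_cases hp : p = 7
      · obtain ⟨P, x, hP, hx, hxn⟩ := hH.exists_pair hc (r := 5) (s := 2) (by norm_num) (by norm_num) (by decide)
        exact hG.radical_eq_bot hsh.isP (by omega) hp2 (by norm_num) hP hx hxn
      · obtain ⟨P, x, hP, hx, hxn⟩ := hH.exists_pair hc (r := 7) (s := 2) (by norm_num) (by norm_num) (by decide)
        exact hG.radical_eq_bot hsh.isP hp hp2 (by norm_num) hP hx hxn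
    · have hc : Nat.card M = 32537600 :=
        (Nat.card_congr e.toEquiv).trans ((card_lie_sz (F := F) (m := 2) one_le_two (hF.trans (by norm_num))).trans
          (by norm_num))
      refine ⟨(bound 32537600 31 2 [2, 2, 2, 2, 2, 2, 2, 2, 2, 2, 5, 5, 31, 41] hc (by simp +decide) (by norm_num)
        (by norm_num) (by norm_num) (by norm_num) (by norm_num) (by decide)).trans (by decide), fun _ => ?_⟩
      have hMt : M = ⊤ := hH.index_eq_one hc (r := 31) (s := 41) (by norm_num) (by norm_num) (by norm_num)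
        (by norm_num) (by norm_num) (by norm_num) fun a hlt had _ hmod b hb hbd hab hpp => by
          have ha : a = 2 := (by decide : ∀ a < 31, a ∣ 31 - 1 → 32537600 / (31 * a) % 31 = 1 → a = 2) a hlt had hmod
          subst ha
          rcases (by decide : ∀ b < 31, b ∣ 31 - 1 → 2 ∣ b → b = 2 ∨ (2 ∣ b ∧ 3 ∣ b) ∨ (2 ∣ b ∧ 5 ∣ b))
            b hb hbd hab with h | ⟨h, h'⟩ | ⟨h, h'⟩
          · exact h
          · exact absurd hpp (not_isPrimePow_of_two_three h Nat.prime_three (by norm_num) h')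
          · exact absurd hpp (not_isPrimePow_of_two_three h (by norm_num : Nat.Prime 5) (by norm_num) h')
      refine Or.inr ⟨R, hRn, ?_, F, i, j, Or.inr ⟨hF, (fin hMt).map fun f => f.symm.trans e⟩⟩
      by_cases hp2 : p = 2
      · exact hp2 ▸ hsh.isP
      suffices hR : R = ⊥ by rw [hR]; exact IsPGroup.of_bot
      by_cases hp : p = 31
      · obtain ⟨P, x, hP, hx, hxn⟩ := hH.exists_pair hc (r := 41) (s := 2) (by norm_num) (by norm_num) (by decide)
        exact hG.radical_eq_bot hsh.isP (by omega) hp2 (by norm_num) hP hx hxn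
      · obtain ⟨P, x, hP, hx, hxn⟩ := hH.exists_pair hc (r := 31) (s := 2) (by norm_num) (by norm_num) (by decide)
        exact hG.radical_eq_bot hsh.isP hp hp2 (by norm_num) hP hx hxn

end Cfsg.Lib.CIT
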