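import Cfsg.Agent.Lib.CIT.Consumers.EppoList
import Cfsg.Agent.Lib.CIT.TICount
import Cfsg.Agent.Lib.Perm.SuzUnique.Zassenhaus

/-!
The inputs of the consumers: the classification of simple CIT groups, and the identification of those
of Suzuki order.
-/

set_option autoImplicit false
set_option linter.style.haveILetI false

namespace Cfsg.Lib.CIT

open Subgroup
open Cfsg.Lib

universe u

theorem tiHolds : TIHolds.{u} := fun _ _ _ _ hD => exists_tiShape hD

theorem citListHolds : CITListHolds.{u} := fun _ _ _ _ hna hG => citList tiHolds hna hG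

theorem suzukiIso : SuzukiIso.{u} := by
  intro G _ _ _ hna hG hS
  have h3 : ¬ 3 ∣ Nat.card G := by
    obtain ⟨-, m, -, hc⟩ := hS
    rw [hc]
    have hq : (2 ^ (2 * m + 1)) % 3 = 2 := by rw [pow_succ, pow_mul, Nat.mul_mod, Nat.pow_mod]; norm_num
    generalize 2 ^ (2 * m + 1) = q at hq
    intro h
    rcases Nat.prime_three.dvd_mul.1 h with h4 | h4
    · rcases Nat.prime_three.dvd_mul.1 h4 with h5 | h5
      · have := Nat.prime_three.dvd_of_dvd_pow h5; omega
      · rw [Nat.dvd_iff_mod_eq_zero, Nat.add_mod, Nat.pow_mod, hq] at h5; norm_num at h5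
    · omega
  rcases trichotomy (ffHolds tiHolds) (Nat.card G + 1) G hna hG (Nat.lt_succ_self _) with h | h | h
  · obtain ⟨S⟩ : Nonempty (Sylow 2 G) := inferInstance
    haveI : Finite (G ⧸ normalizer ((S : Subgroup G) : Set G)) := inferInstance
    exact SuzUnique.isoSuzuki_of_isSuzuki (isZassenhausGroup (tiData hna hG h S)) hS
  · obtain ⟨F, _, _, ⟨e⟩⟩ := psl_of_dihedral hna hG h
    exact absurd (Nat.card_congr e.toEquiv ▸ SuzUnique.three_dvd_card_psl F) h3
  · obtain ⟨F, _, _, hF, ⟨e⟩⟩ := h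
    refine absurd ?_ h3
    rw [Nat.card_congr e.toEquiv, Cfsg.Lib.Concrete.MTwentyOne.card_psl34 F hF]
    norm_num

end Cfsg.Lib.CIT
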