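import Cfsg.Agent.Lib.CIT.TIBranch
import Cfsg.Agent.Lib.MinNonCA.Defs
import Cfsg.Agent.Lib.Dickson.Involutions
import Cfsg.Agent.Lib.Spec.SLTwo
import Cfsg.Agent.Lib.GW.Basic
import Cfsg.Agent.S0033
import Cfsg.Agent.S0035
import Cfsg.Agent.S0226
import Cfsg.Agent.S0252
import Cfsg.Agent.S0253
import Cfsg.Agent.Lib.Perm.SuzUnique.Zassenhaus

/-!
# Groups with a Frobenius system on their maximal solvable subgroups

Such a group is solvable, or has a nilpotent subgroup of even order containing the centralizers of its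
elements, hence is a simple Zassenhaus group by the TI counting theorem.
-/

set_option autoImplicit false
set_option linter.style.haveILetI false

namespace Cfsg.Lib.CIT.Consumers

open Subgroup
open Cfsg.Lib
open scoped Pointwise commutatorElement

universe u

variable {G : Type u} [Group G] {F : Subgroup G → Subgroup G}

/-- A maximal solvable subgroup. -/
def IsMaxSolvable (M : Subgroup G) : Prop :=
  Group.IsSolvable M ∧ ∀ M' : Subgroup G, M < M' → ¬ Group.IsSolvable M'

/-- Each maximal solvable subgroup is abelian or Frobenius-like with respect to `F`. -/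
def FrobSystem (F : Subgroup G → Subgroup G) : Prop :=
  ∀ M : Subgroup G, IsMaxSolvable M → F M ≤ M ∧ M ≤ normalizer (F M : Set G) ∧
    (∀ a ∈ M, a ∉ F M → ∀ x ∈ F M, x * a = a * x → x = 1) ∧
    (∀ g : G, g ∉ M → F M ⊓ (MulAut.conj g • F M) = ⊥) ∧
    (F M ≠ ⊥ ∨ IsMulCommutative M)

theorem sq_eq_one_of_orderOf {x : G} (h : orderOf x = 2) : x ^ 2 = 1 := h ▸ pow_orderOf_eq_one x

theorem exists_maxSolvable_ge [Finite G] {H : Subgroup G} (hH : Group.IsSolvable H) :
    ∃ M : Subgroup G, IsMaxSolvable M ∧ H ≤ M := by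
  obtain ⟨M, hle, hM⟩ :=
    (Set.toFinite {K : Subgroup G | Group.IsSolvable K}).exists_le_maximal (a := H) hH
  exact ⟨M, ⟨hM.prop, fun M' hlt hs => hlt.not_ge (hM.le_of_ge hs hlt.le)⟩, hle⟩

theorem IsMaxSolvable.ne_top {M : Subgroup G} (hM : IsMaxSolvable M) (hns : ¬ Group.IsSolvable G) :
    M ≠ ⊤ := fun e => hns (MinNonCA.isSolvable_of_eq_top hM.1 e)

variable {M : Subgroup G}

theorem FrobSystem.cent_le (hF : FrobSystem F) (hM : IsMaxSolvable M) {x : G} (hx : x ∈ F M)
    (hx1 : x ≠ 1) : centralizer ({x} : Set G) ≤ F M := by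
  obtain ⟨-, -, hfr, hti, -⟩ := hF M hM
  intro g hg
  have hgM : g ∈ M := by
    by_contra hgM
    refine hx1 ?_
    have h1 : x ∈ F M ⊓ (MulAut.conj g • F M) := by
      refine Subgroup.mem_inf.2 ⟨hx, ?_⟩
      rw [Subgroup.mem_pointwise_smul_iff_inv_smul_mem]
      simp only [MulAut.smul_def, MulAut.inv_def, MulAut.conj_symm_apply]
      rwa [mul_assoc, (MinNonCA.mem_cent.1 hg).eq, inv_mul_cancel_left]
    rwa [hti g hgM, mem_bot] at h1
  by_contra hgF
  exact hx1 (hfr g hgM hgF x hx (MinNonCA.mem_cent.1 hg).eq)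

theorem FrobSystem.normalizer_eq (hF : FrobSystem F) (hM : IsMaxSolvable M) (hne : F M ≠ ⊥) :
    normalizer (F M : Set G) = M := by
  obtain ⟨-, hn, -, hti, -⟩ := hF M hM
  refine le_antisymm (fun g hg => ?_) hn
  by_contra hgM
  refine hne ?_
  have e : MulAut.conj g • F M = F M := Cfsg.Lib.Core.mem_normalizer_iff_map_conj.1 hg
  have h1 := hti g hgM
  rwa [e, inf_idem] at h1

theorem FrobSystem.no_abelian_normal (hF : FrobSystem F) (hns : ¬ Group.IsSolvable G)
    (hM : IsMaxSolvable M) (hne : F M ≠ ⊥) {A : Subgroup G} [hA : A.Normal] (hc : MinNonCA.Comm A) :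
    A = ⊥ := by
  obtain ⟨hFM, hn, -, hti, -⟩ := hF M hM
  have hAM : A ≤ M := by
    by_contra hle
    exact hM.2 _ (lt_of_le_of_ne le_sup_right fun e => hle (e ▸ le_sup_left))
      (MinNonCA.isSolvable_sup hc.isSolvable hM.1)
  by_contra hA1
  by_cases hd : A ⊓ F M = ⊥
  · obtain ⟨x, hx, hx1⟩ := (bot_or_exists_ne_one (F M)).resolve_left hne
    obtain ⟨a, ha, ha1⟩ := (bot_or_exists_ne_one A).resolve_left hA1
    have h1 : a * x * a⁻¹ * x⁻¹ ∈ A ⊓ F M := by
      refine Subgroup.mem_inf.2 ⟨?_, mul_mem ((mem_normalizer_iff.1 (hn (hAM ha)) x).1 hx) (inv_mem hx)⟩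
      rw [show a * x * a⁻¹ * x⁻¹ = a * (x * a⁻¹ * x⁻¹) by group]
      exact mul_mem ha (hA.conj_mem _ (inv_mem ha) x)
    rw [hd, mem_bot, mul_inv_eq_one, mul_inv_eq_iff_eq_mul] at h1
    have h2 : a ∈ A ⊓ F M := ⟨ha, hF.cent_le hM hx hx1 (MinNonCA.mem_cent.2 (Commute.symm h1))⟩
    rw [hd, mem_bot] at h2
    exact ha1 h2
  · obtain ⟨y, ⟨hyA, hyF⟩, hy1⟩ := (bot_or_exists_ne_one _).resolve_left hd
    have hAF : A ≤ F M := fun a ha => hF.cent_le hM hyF hy1 (MinNonCA.mem_cent.2 (hc y hyA a ha))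
    obtain ⟨g, -, hg⟩ := SetLike.exists_of_lt (lt_top_iff_ne_top.2 (hM.ne_top hns))
    refine hA1 (eq_bot_iff.2 ?_)
    rw [← hti g hg]
    refine le_inf hAF fun a ha => ?_
    rw [Subgroup.mem_pointwise_smul_iff_inv_smul_mem]
    simp only [MulAut.smul_def, MulAut.inv_def, MulAut.conj_symm_apply]
    exact hAF (by simpa using hA.conj_mem a ha g⁻¹)

theorem FrobSystem.no_solvable_normal [Finite G] (hF : FrobSystem F) (hns : ¬ Group.IsSolvable G)
    (hM : IsMaxSolvable M) (hne : F M ≠ ⊥) {N : Subgroup G} [hN : N.Normal] (hs : Group.IsSolvable N) :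
    N = ⊥ := by
  by_contra hN1
  obtain ⟨A, hA⟩ :=
    (Set.toFinite {A : Subgroup G | A.Normal ∧ A ≤ N ∧ A ≠ ⊥}).exists_minimal ⟨N, hN, le_rfl, hN1⟩
  obtain ⟨hAn, hAN, hA1⟩ := hA.prop
  haveI := hAn
  haveI : Group.IsSolvable A := MinNonCA.isSolvable_of_le hAN hs
  haveI : Nontrivial A := (nontrivial_iff_ne_bot A).2 hA1
  have hlt : ⁅A, A⁆ ≠ A := fun e => by
    refine (Group.IsSolvable.commutator_lt_top_of_nontrivial A).ne (map_injective A.subtype_injective ?_)
    rw [map_subtype_commutator, e, ← MonoidHom.range_eq_map, range_subtype]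
  have hbot : ⁅A, A⁆ = ⊥ := by
    by_contra hb
    exact hlt (le_antisymm (commutator_le_self A)
      (hA.le_of_le ⟨inferInstance, (commutator_le_self A).trans hAN, hb⟩ (commutator_le_self A)))
  refine hA1 (hF.no_abelian_normal hns hM hne fun a ha b hb => ?_)
  have h1 : ⁅a, b⁆ ∈ ⁅A, A⁆ := commutator_mem_commutator ha hb
  rwa [hbot, mem_bot, commutatorElement_eq_one_iff_mul_comm] at h1

/-- A subgroup containing the centralizers of its non-identity elements is a Hall subgroup. -/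
theorem coprime_index_of_cent [Finite G] {H : Subgroup G}
    (hc : ∀ h ∈ H, h ≠ 1 → centralizer ({h} : Set G) ≤ H) : (Nat.card H).Coprime H.index := by
  refine Nat.coprime_of_dvd fun p hp hd hi => ?_
  haveI := Fact.mk hp
  obtain ⟨P⟩ : Nonempty (Sylow p H) := inferInstance
  obtain ⟨Q, hQ⟩ := (P.2.map H.subtype).exists_le_sylow
  obtain ⟨x, hx, hx1⟩ := (bot_or_exists_ne_one _).resolve_left (P.ne_bot_of_dvd_card hd)
  haveI : Nontrivial (Q : Subgroup G) := by
    refine (nontrivial_iff_ne_bot _).2 fun e => hx1 ?_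
    have := hQ ⟨x, hx, rfl⟩
    rw [e, mem_bot] at this
    exact Subtype.ext this
  haveI := Q.2.center_nontrivial
  obtain ⟨z, hz⟩ := exists_ne (1 : center (Q : Subgroup G))
  have hxQ : (x : G) ∈ (Q : Subgroup G) := hQ ⟨x, hx, rfl⟩
  have hzH : ((z : (Q : Subgroup G)) : G) ∈ H := hc _ x.2 (fun e => hx1 (Subtype.ext e))
    (mem_centralizer_singleton_iff.2 (congrArg Subtype.val (mem_center_iff.1 z.2 ⟨x, hxQ⟩)).symm)
  have hQH : (Q : Subgroup G) ≤ H := fun q hq => hc _ hzH
    (fun e => hz (Subtype.ext (Subtype.ext e)))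
    (mem_centralizer_singleton_iff.2 (congrArg Subtype.val (mem_center_iff.1 z.2 ⟨q, hq⟩)))
  exact Q.not_dvd_index (hi.trans (index_dvd_of_le hQH))

/-- A non-solvable group with a Frobenius system has a kernel of even order. -/
theorem FrobSystem.exists_even [Finite G] (hF : FrobSystem F) (hns : ¬ Group.IsSolvable G) :
    ∃ M, IsMaxSolvable M ∧ ∃ z ∈ F M, orderOf z = 2 := by
  haveI : Fact (Nat.Prime 2) := ⟨Nat.prime_two⟩
  obtain ⟨S⟩ : Nonempty (Sylow 2 G) := inferInstance
  set N := normalizer ((S : Subgroup G) : Set G) with hN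
  have hNs : Group.IsSolvable N := by
    set S₁ := S.subtype (N := N) le_normalizer with hS₁
    haveI : (S₁ : Subgroup N).Normal := normal_in_normalizer
    haveI := S₁.2.isNilpotent
    haveI : Group.IsSolvable (N ⧸ (S₁ : Subgroup N)) := by
      refine Cfsg.Agent.S0205.result ?_
      rw [← index_eq_card]
      exact Nat.not_even_iff_odd.1 fun he => S₁.not_dvd_index (even_iff_two_dvd.1 he)
    exact (Group.isSolvable_iff_subgroup_quotient (S₁ : Subgroup N)).2 ⟨inferInstance, inferInstance⟩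
  obtain ⟨M, hM, hNM⟩ := exists_maxSolvable_ge hNs
  refine ⟨M, hM, ?_⟩
  obtain ⟨hFM, hn, hfr, hti, hor⟩ := hF M hM
  by_cases hne : F M = ⊥
  · exfalso
    have hc : IsMulCommutative M := hor.resolve_left (not_not.2 hne)
    have hle : N ≤ centralizer ((S : Subgroup G) : Set G) := fun a ha => mem_centralizer_iff.2 fun b hb =>
      congrArg Subtype.val (hc.is_comm.comm ⟨b, hNM (le_normalizer hb)⟩ ⟨a, hNM ha⟩)
    haveI hSc : IsMulCommutative (S : Subgroup G) := MinNonCA.comm_iff.1 fun a ha b hb =>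
      congrArg Subtype.val (hc.is_comm.comm ⟨a, hNM (le_normalizer ha)⟩ ⟨b, hNM (le_normalizer hb)⟩)
    set f := MonoidHom.transferSylow S hle with hf
    haveI : Group.IsSolvable f.ker := by
      refine Cfsg.Agent.S0205.result (Nat.not_even_iff_odd.1 fun he => ?_)
      exact S.not_dvd_index ((MonoidHom.ker_transferSylow_isComplement' S hle).index_eq_card.symm ▸
        even_iff_two_dvd.1 he)
    haveI : Group.IsSolvable (S : Subgroup G) :=
      Group.isSolvable_of_comm fun a b => hSc.is_comm.comm a b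
    haveI : Group.IsSolvable (G ⧸ f.ker) :=
      Group.isSolvable_of_isSolvable_injective (QuotientGroup.kerLift_injective f)
    exact hns ((Group.isSolvable_iff_subgroup_quotient f.ker).2 ⟨inferInstance, inferInstance⟩)
  by_contra hodd
  simp only [not_exists, not_and] at hodd
  have hFodd : Odd (Nat.card (F M)) := Nat.not_even_iff_odd.1 fun he => by
    obtain ⟨z, hz⟩ := exists_prime_orderOf_dvd_card' (G := F M) 2 (even_iff_two_dvd.1 he)
    exact hodd z z.2 (by rw [orderOf_coe, hz])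
  have hSM : (S : Subgroup G) ≤ M := le_normalizer.trans hNM
  have hinv : ∀ s ∈ (S : Subgroup G), orderOf s = 2 → ∀ u ∈ F M, s * u * s⁻¹ = u⁻¹ := by
    intro s hs hs2 u hu
    haveI : ((F M).subgroupOf M).Normal := (normal_subgroupOf_iff_le_normalizer hFM).2 hn
    let φ : (F M) →* (F M) :=
      ((MulAut.conj s).toMonoidHom.comp (F M).subtype).codRestrict (F M) fun a =>
        (mem_normalizer_iff.1 (hn (hSM hs)) _).1 a.2
    have hss : s * s = 1 := by rw [← sq, sq_eq_one_of_orderOf hs2]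
    have hfp : MonoidHom.FixedPointFree φ := fun a ha => Subtype.ext
      (hfr s (hSM hs) (fun h => hodd s h hs2) a a.2
        (mul_inv_eq_iff_eq_mul.1 (congrArg Subtype.val ha)).symm)
    have hin : Function.Involutive φ := fun a => Subtype.ext (by
      show s * (s * (a : G) * s⁻¹) * s⁻¹ = a
      rw [show s * (s * (a : G) * s⁻¹) * s⁻¹ = (s * s) * a * (s * s)⁻¹ by group, hss]; group)
    exact congrArg Subtype.val (congrFun (hfp.coe_eq_inv_of_involutive hin) ⟨u, hu⟩)
  obtain ⟨u, hu, hu1⟩ := (bot_or_exists_ne_one (F M)).resolve_left hne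
  have h2 : 2 ∣ Nat.card G := by
    by_contra h
    exact hns (Cfsg.Agent.S0205.result (Nat.odd_iff.2 (Nat.two_dvd_ne_zero.1 h)))
  haveI : Nontrivial (S : Subgroup G) := (nontrivial_iff_ne_bot _).2 (S.ne_bot_of_dvd_card h2)
  obtain ⟨z, -, hzc, hz⟩ := PGroup.exists_mem_center_orderOf_eq S.2
    (N := (⊤ : Subgroup (S : Subgroup G))) top_ne_bot
  have hz' : orderOf (z : G) = 2 := by rw [orderOf_coe, hz]
  have huniq : ∀ s ∈ (S : Subgroup G), orderOf s = 2 → s = z := by
    intro s hs hs2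
    by_contra hsz
    have hcz : Commute s (z : G) := congrArg Subtype.val (mem_center_iff.1 hzc ⟨s, hs⟩)
    have hsz2 : orderOf (s * z) = 2 := by
      refine orderOf_eq_prime ?_ fun e => hsz ?_
      · rw [hcz.mul_pow, sq_eq_one_of_orderOf hs2, sq_eq_one_of_orderOf hz', one_mul]
      · rw [eq_inv_of_mul_eq_one_left e]
        exact inv_eq_of_mul_eq_one_right (by rw [← sq, sq_eq_one_of_orderOf hz'])
    have e1 := hinv _ (mul_mem hs z.2) hsz2 u hu
    have e2 := hinv _ hs hs2 u⁻¹ (inv_mem hu)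
    rw [show s * z * u * (s * (z : G))⁻¹ = s * ((z : G) * u * (z : G)⁻¹) * s⁻¹ by group,
      hinv _ z.2 hz' u hu, e2, inv_inv] at e1
    refine hu1 ?_
    have h4 := orderOf_dvd_of_pow_eq_one (show u ^ 2 = 1 by rw [sq]; exact mul_eq_one_iff_eq_inv.2 e1)
    have h5 := hFodd.of_dvd_nat (orderOf_dvd_natCard _ hu)
    rcases (Nat.dvd_prime Nat.prime_two).1 h4 with e | e
    · exact orderOf_eq_one_iff.1 e
    · rw [e] at h5; exact absurd h5 (by decide)
  have hO : oddCore G = ⊥ := by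
    haveI : (oddCore G).Normal := Cfsg.pPrimeCore_normal 2 G
    exact hF.no_solvable_normal hns hM hne (Cfsg.Agent.S0205.result ZStar.odd_card_oddCore)
  have hzC := ZStar.mem_center_of_isolated hO (ZStar.isolated_of_unique_involution S hz' huniq)
  have hb : zpowers (z : G) = ⊥ := by
    haveI : (zpowers (z : G)).Normal := ⟨fun a ha g => by
      rw [mem_center_iff.1 ((zpowers_le.2 hzC) ha) g, mul_inv_cancel_right]; exact ha⟩
    refine hF.no_abelian_normal hns hM hne ?_
    rintro _ ⟨i, rfl⟩ _ ⟨j, rfl⟩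
    exact Commute.zpow_zpow_self _ i j
  rw [zpowers_eq_bot] at hb
  rw [hb, orderOf_one] at hz'
  omega

variable [Finite G]

/-- The kernel of even order is a proper nilpotent TI subgroup. -/
theorem FrobSystem.tiData (hF : FrobSystem F) (hns : ¬ Group.IsSolvable G) (hM : IsMaxSolvable M)
    {z : G} (hz : z ∈ F M) (hz2 : orderOf z = 2) : TIData (F M) := by
  haveI : Fact (Nat.Prime 2) := ⟨Nat.prime_two⟩
  obtain ⟨hFM, hn, -, hti, -⟩ := hF M hM
  have hz1 : z ≠ 1 := fun e => by rw [e, orderOf_one] at hz2; omega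
  have hne : F M ≠ ⊥ := fun e => hz1 (by rwa [e, mem_bot] at hz)
  have hNF := hF.normalizer_eq hM hne
  have hcent : ∀ h ∈ F M, h ≠ 1 → centralizer ({h} : Set G) ≤ F M := fun h hh hh1 => hF.cent_le hM hh hh1
  have hhall := coprime_index_of_cent hcent
  -- the kernel is not the whole subgroup
  have hneM : F M ≠ M := by
    intro e
    have hFC : Cfsg.IsFrobeniusComplement M := by
      refine ⟨fun e1 => hne (e.trans e1), hM.ne_top hns, fun g hg => ?_⟩
      have h := hti g hg
      rwa [e] at h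
    obtain ⟨K, -, hK, hc⟩ := Cfsg.Agent.S0035.result M hFC
    haveI := hK
    obtain ⟨a, ha⟩ := exists_prime_orderOf_dvd_card' (G := M) 2 (by
      have h := orderOf_dvd_natCard M (hFM hz)
      rwa [hz2] at h)
    have ha' : orderOf (a : G) = 2 := by rw [orderOf_coe, ha]
    let φ : MulAut K := MulAut.conjNormal (a : G)
    have hfp : MonoidHom.FixedPointFree (φ : K →* K) := fun x hx => by
      have h1 : (a : G) * x * (a : G)⁻¹ = x := congrArg Subtype.val hx
      have h2 : (x : G) ∈ F M := hcent a (e.symm ▸ a.2)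
        (fun h => by rw [h, orderOf_one] at ha'; omega)
        (MinNonCA.mem_cent.2 (mul_inv_eq_iff_eq_mul.1 h1))
      exact Subtype.ext ((Subgroup.disjoint_def.1 hc.disjoint) x.2 (e ▸ h2))
    have hord : orderOf φ = 2 := by
      refine orderOf_eq_prime ?_ fun h1 => ?_
      · show (MulAut.conjNormal (a : G)) ^ 2 = 1
        rw [← map_pow, ← ha', pow_orderOf_eq_one, map_one]
      · have hK1 : K = ⊥ := eq_bot_iff.2 fun x hx =>
          mem_bot.2 (congrArg Subtype.val (hfp ⟨x, hx⟩ (by show φ _ = _; rw [h1]; rfl)))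
        rw [hK1, isComplement'_bot_left] at hc
        exact hM.ne_top hns hc
    haveI := Cfsg.Agent.S0033.result φ hfp 2 Nat.prime_two hord
    haveI : Group.IsSolvable K := IsNilpotent.to_isSolvable
    haveI := hM.1
    haveI : Group.IsSolvable (G ⧸ K) :=
      Group.isSolvable_of_surjective (f := (QuotientGroup.mk' K).comp M.subtype) fun q => by
        obtain ⟨g, rfl⟩ := QuotientGroup.mk'_surjective K q
        obtain ⟨⟨⟨k, hk⟩, m⟩, hkm⟩ := hc.2 g
        refine ⟨m, ?_⟩
        show QuotientGroup.mk' K (m : G) = _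
        rw [← hkm, map_mul, show QuotientGroup.mk' K k = 1 from (QuotientGroup.eq_one_iff k).2 hk, one_mul]
    exact hns ((Group.isSolvable_iff_subgroup_quotient K).2 ⟨inferInstance, inferInstance⟩)
  -- the kernel is nilpotent
  haveI hFn : ((F M).subgroupOf M).Normal := (normal_subgroupOf_iff_le_normalizer hFM).2 hn
  obtain ⟨a, haM, haF⟩ := SetLike.exists_of_lt (lt_of_le_of_ne hFM hneM)
  obtain ⟨n, r, k, hr, hk, hout⟩ := MinNonCA.exists_pow_primePow' (K := F M) haF
  haveI := Fact.mk hr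
  have hrF : ¬ r ∣ Nat.card (F M) := by
    intro hd
    refine hout ?_
    have hco : (r ^ k).Coprime (F M).index :=
      Nat.Coprime.pow_left _ (hr.coprime_iff_not_dvd.2 fun h => hr.not_dvd_one (hhall ▸ Nat.dvd_gcd hd h))
    set q := QuotientGroup.mk' ((F M).subgroupOf M) (⟨a ^ n, pow_mem haM n⟩ : M) with hq
    have h1 : q ^ r ^ k = 1 := by
      rw [hq, ← map_pow, show (⟨a ^ n, pow_mem haM n⟩ : M) ^ r ^ k = 1 from
        Subtype.ext (show (a ^ n) ^ r ^ k = 1 by rw [← hk, pow_orderOf_eq_one]), map_one]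
    have h2 : q ^ (F M).index = 1 := by
      obtain ⟨l, hl⟩ : ((F M).subgroupOf M).index ∣ (F M).index := relIndex_dvd_index_of_le hFM
      rw [hl, pow_mul, index_eq_card, pow_card_eq_one', one_pow]
    exact mem_subgroupOf.1 ((QuotientGroup.eq_one_iff _).1 (MinNonCA.pow_eq_one_of_coprime h1 h2 hco))
  obtain ⟨b, hb⟩ : ∃ b : M, orderOf b = r :=
    exists_prime_orderOf_dvd_card' r (by
      refine dvd_trans ?_ (orderOf_dvd_natCard M (pow_mem haM n))
      rw [hk]
      refine dvd_pow_self r fun e => hout ?_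
      rw [e, pow_zero, orderOf_eq_one_iff] at hk
      rw [hk]; exact one_mem _)
  have hbF : (b : G) ∉ F M := fun h => hrF (by
    have h' := orderOf_dvd_natCard (F M) h
    rwa [orderOf_coe, hb] at h')
  let ψ : MulAut ((F M).subgroupOf M) := MulAut.conjNormal b
  have hfp : MonoidHom.FixedPointFree (ψ : (F M).subgroupOf M →* (F M).subgroupOf M) := fun x hx => by
    have h1 : (b : G) * (x : M) * (b : G)⁻¹ = (x : M) :=
      congrArg (fun y : (F M).subgroupOf M => ((y : M) : G)) hx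
    by_contra hx1
    exact hbF (hcent _ (mem_subgroupOf.1 x.2) (fun h => hx1 (Subtype.ext (Subtype.ext h)))
      (MinNonCA.mem_cent.2 (mul_inv_eq_iff_eq_mul.1 h1).symm))
  have hψ : orderOf ψ = r := by
    refine orderOf_eq_prime ?_ fun h1 => hz1 ?_
    · show (MulAut.conjNormal b) ^ r = 1
      rw [← map_pow, ← hb, pow_orderOf_eq_one, map_one]
    · exact congrArg (fun y : (F M).subgroupOf M => ((y : M) : G))
        (hfp ⟨⟨z, hFM hz⟩, mem_subgroupOf.2 hz⟩ (by show ψ _ = _; rw [h1]; rfl))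
  haveI := Cfsg.Agent.S0033.result ψ hfp r hr hψ
  haveI hnil : Group.IsNilpotent (F M) := Group.nilpotent_of_mulEquiv (subgroupOfEquivOfLe hFM)
  -- a central involution
  obtain ⟨P⟩ : Nonempty (Sylow 2 (F M)) := inferInstance
  haveI : Nontrivial (P : Subgroup (F M)) :=
    (nontrivial_iff_ne_bot _).2 (P.ne_bot_of_dvd_card (by
      have h := orderOf_dvd_natCard (F M) hz; rwa [hz2] at h))
  obtain ⟨c, -, hcc, hc2⟩ := PGroup.exists_mem_center_orderOf_eq P.2
    (N := (⊤ : Subgroup (P : Subgroup (F M)))) top_ne_bot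
  have hcall : ∀ y : F M, Commute (c : F M) y := by
    have htop : (centralizer ({(c : F M)} : Set (F M))) = ⊤ := by
      rw [← index_eq_one]
      by_contra h1
      obtain ⟨s, hs, hsd⟩ := Nat.exists_prime_and_dvd h1
      haveI := Fact.mk hs
      obtain ⟨Q⟩ : Nonempty (Sylow s (F M)) := inferInstance
      refine Q.not_dvd_index (hsd.trans (index_dvd_of_le fun y hy => MinNonCA.mem_cent.2 ?_))
      by_cases h2 : s = 2
      · subst h2
        have hnP : ∀ R : Sylow 2 (F M), (R : Subgroup (F M)).Normal := fun R =>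
          ((Group.isNilpotent_of_finite_tfae (G := F M)).out 0 3 rfl rfl).1 hnil 2 inferInstance R
        haveI := Sylow.unique_of_normal P (hnP P)
        have hyP : y ∈ (P : Subgroup (F M)) := Subsingleton.elim Q P ▸ hy
        exact (congrArg Subtype.val (mem_center_iff.1 hcc ⟨y, hyP⟩)).symm
      · have hnQ := ((Group.isNilpotent_of_finite_tfae (G := F M)).out 0 3 rfl rfl).1 hnil
        exact Subgroup.commute_of_normal_of_disjoint _ _ (hnQ 2 inferInstance P) (hnQ s inferInstance Q)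
          (IsPGroup.disjoint_of_ne 2 s (Ne.symm h2) _ _ P.2 Q.2) _ _ c.2 hy
    exact fun y => MinNonCA.mem_cent.1 (htop ▸ mem_top y)
  have hc' : orderOf ((c : F M) : G) = 2 := by rw [orderOf_coe, orderOf_coe, hc2]
  refine ⟨by rw [hNF]; exact hM.ne_top hns, hhall, fun g hg => hti g (hNF ▸ hg), hcent,
    ⟨_, (c : F M).2, hc', fun h hh => (congrArg Subtype.val (hcall ⟨h, hh⟩).eq).symm⟩, ?_⟩
  by_contra h2
  simp only [not_exists, not_and, not_not] at h2
  refine hneM (le_antisymm hFM fun m hm => hcent _ (c : F M).2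
    (fun e => by rw [e, orderOf_one] at hc'; omega) (MinNonCA.mem_cent.2 ?_))
  have h3 : m * ((c : F M) : G) * m⁻¹ = (c : F M) :=
    h2 _ ((mem_normalizer_iff.1 (hn hm) _).1 (c : F M).2) _ (c : F M).2
      (by rw [Invol.orderOf_conj_eq, hc']) hc'
  exact (mul_inv_eq_iff_eq_mul.1 h3).symm

/-- Such a group is simple. -/
theorem FrobSystem.simple (hF : FrobSystem F) (hns : ¬ Group.IsSolvable G) (hM : IsMaxSolvable M)
    (hne : F M ≠ ⊥) {E : Subgroup G} {t : G} (hD : TIData (F M)) (hE : TIShape (F M) E t) :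
    IsSimpleGroup G := by
  haveI : Fact (Nat.Prime 2) := ⟨Nat.prime_two⟩
  haveI : Nontrivial G := not_subsingleton_iff_nontrivial.1 fun h => hns
    (Group.isSolvable_of_comm fun a b => h.elim _ _)
  refine ⟨fun N hN => or_iff_not_imp_left.2 fun hN1 => ?_⟩
  have heven : 2 ∣ Nat.card N := by
    by_contra hodd
    exact hN1 (hF.no_solvable_normal hns hM hne
      (Cfsg.Agent.S0205.result (Nat.odd_iff.2 (Nat.two_dvd_ne_zero.1 hodd))))
  obtain ⟨v, hv⟩ := exists_prime_orderOf_dvd_card' (G := N) 2 heven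
  obtain ⟨z, hz, hz2, -⟩ := hD.central
  have hHeven : 2 ∣ Nat.card (F M) := by
    have h := orderOf_dvd_natCard (F M) hz
    rwa [hz2] at h
  obtain ⟨P⟩ : Nonempty (Sylow 2 (F M)) := inferInstance
  obtain ⟨S, hS⟩ := (P.2.map (F M).subtype).exists_le_sylow
  have hSH : (S : Subgroup G) ≤ F M := by
    refine le_of_eq_of_le (Subgroup.eq_of_le_of_card_ge hS ?_).symm (map_subtype_le _)
    rw [Subgroup.card_map_of_injective (F M).subtype_injective, P.card_eq_multiplicity,
      S.card_eq_multiplicity]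
    refine Nat.pow_le_pow_right two_pos (le_of_eq ?_)
    have hi : ¬ 2 ∣ (F M).index := fun h => Nat.prime_two.not_dvd_one
      (hD.hall ▸ Nat.dvd_gcd hHeven h)
    rw [← card_mul_index (F M), Nat.factorization_mul Nat.card_pos.ne' index_ne_zero_of_finite,
      Finsupp.add_apply, Nat.factorization_eq_zero_of_not_dvd hi, add_zero]
  obtain ⟨R, hR⟩ := (IsPGroup.of_card (p := 2) (n := 1)
    (show Nat.card (zpowers (v : G)) = 2 ^ 1 by rw [Nat.card_zpowers, orderOf_coe, hv, pow_one])).exists_le_sylow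
  obtain ⟨c, hc⟩ := MulAction.exists_smul_eq G R S
  set w := c * (v : G) * c⁻¹ with hw
  have hwH : w ∈ F M := hSH (by
    rw [← hc, Sylow.coe_subgroup_smul]
    exact ⟨v, hR (mem_zpowers _), by simp [hw]⟩)
  have hwN : w ∈ N := hN.conj_mem _ v.2 c
  have hw2 : orderOf w = 2 := by rw [hw, Invol.orderOf_conj_eq, orderOf_coe, hv]
  have hinvN : ∀ a ∈ F M, orderOf a = 2 → a ∈ N := by
    intro a ha ha2
    obtain ⟨e, he, -⟩ := hE.regular w hwH a ha hw2 ha2
    exact he ▸ hN.conj_mem _ hwN _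
  have htN : t ∈ N := by
    obtain ⟨R', hR'⟩ := (IsPGroup.of_card (p := 2) (n := 1)
      (show Nat.card (zpowers t) = 2 ^ 1 by rw [Nat.card_zpowers, hE.order_t, pow_one])).exists_le_sylow
    obtain ⟨d, hd⟩ := MulAction.exists_smul_eq G R' S
    have h1 : d * t * d⁻¹ ∈ N := hinvN _ (hSH (by
      rw [← hd, Sylow.coe_subgroup_smul]
      exact ⟨t, hR' (mem_zpowers _), by simp⟩)) (by rw [Invol.orderOf_conj_eq, hE.order_t])
    have h2 := hN.conj_mem' _ h1 d
    rwa [show d⁻¹ * (d * t * d⁻¹) * d = t by group] at h2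
  have hEodd : Odd (Nat.card E) := by
    rw [hE.card_eq]
    have h := Cfsg.Agent.S0226.result (G := F M) (even_iff_two_dvd.2 hHeven)
    rwa [show Nat.card {a : G // a ∈ F M ∧ orderOf a = 2} = Nat.card {a : F M // orderOf a = 2} from
      Nat.card_congr ⟨fun a => ⟨⟨a.1, a.2.1⟩, (orderOf_coe _).symm.trans a.2.2⟩,
        fun a => ⟨a.1, a.1.2, (orderOf_coe _).trans a.2⟩, fun a => rfl, fun a => rfl⟩]
  have hEN : E ≤ N := by
    intro e he
    have h2e : (e ^ 2)⁻¹ ∈ N := by
      have h1 : t * (e * t⁻¹ * e⁻¹) ∈ N := N.mul_mem htN (hN.conj_mem _ (N.inv_mem htN) e)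
      rw [show t * (e * t⁻¹ * e⁻¹) = (t * e * t⁻¹) * e⁻¹ by group, hE.inverts e he, ← mul_inv_rev,
        ← sq] at h1
      exact h1
    obtain ⟨j, hj⟩ := hEodd
    have e1 : e = ((e ^ 2)⁻¹) ^ j := by
      have hp : e ^ Nat.card E = 1 := congrArg Subtype.val (pow_card_eq_one' (x := (⟨e, he⟩ : E)))
      rw [inv_pow, ← pow_mul]
      refine eq_inv_of_mul_eq_one_left ?_
      rw [← pow_succ', ← hj]
      exact hp
    rw [e1]
    exact N.pow_mem h2e j
  obtain ⟨a₁, ha₁, b₁, hb₁, ha₁2, hb₁2, hne₁⟩ := hD.two_involutions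
  obtain ⟨⟨e, he⟩, hee, -⟩ := hE.regular a₁ ha₁ b₁ hb₁ ha₁2 hb₁2
  have he1 : e ≠ 1 := fun e1 => hne₁ (by simpa [e1] using hee)
  have heH : e ∉ F M := fun h => he1 (by
    have : e ∈ F M ⊓ E := ⟨h, he⟩
    rwa [hE.inf_eq, mem_bot] at this)
  let f : F M → F M := fun h => ⟨(h : G)⁻¹ * (e * h * e⁻¹),
    mul_mem (inv_mem h.2) ((mem_normalizer_iff.1 (hE.le_normalizer he) _).1 h.2)⟩
  have hfi : Function.Injective f := by
    intro h₁ h₂ hh
    have h' : (h₁ : G)⁻¹ * (e * h₁ * e⁻¹) = (h₂ : G)⁻¹ * (e * h₂ * e⁻¹) := congrArg Subtype.val hh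
    by_contra hne'
    have hd : ((h₂ : G) * (h₁ : G)⁻¹) ≠ 1 := fun h => hne' (Subtype.ext (mul_inv_eq_one.1 h).symm)
    refine heH (hD.cent _ (mul_mem h₂.2 (inv_mem h₁.2)) hd (mem_centralizer_singleton_iff.2 ?_))
    calc e * ((h₂ : G) * (h₁ : G)⁻¹) = (e * h₂ * e⁻¹) * (e * (h₁ : G)⁻¹) := by group
      _ = (h₂ : G) * ((h₂ : G)⁻¹ * (e * h₂ * e⁻¹)) * (e * (h₁ : G)⁻¹) := by group
      _ = _ := by rw [← h']; group
  have hHN : F M ≤ N := by
    intro h hh
    obtain ⟨y, hy⟩ := (Finite.injective_iff_surjective.1 hfi) ⟨h, hh⟩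
    rw [show h = (y : G)⁻¹ * (e * y * e⁻¹) from (congrArg Subtype.val hy).symm,
      show (y : G)⁻¹ * (e * y * e⁻¹) = ((y : G)⁻¹ * e * y) * e⁻¹ by group]
    exact N.mul_mem (hN.conj_mem' e (hEN he) _) (N.inv_mem (hEN he))
  have hMN : normalizer (F M : Set G) ≤ N := by rw [← hE.sup_eq]; exact sup_le hHN hEN
  refine top_le_iff.1 fun g _ => ?_
  by_cases hg : g ∈ normalizer (F M : Set G)
  · exact hMN hg
  · obtain ⟨h, hh, n', hn', rfl⟩ := hE.decomp g hg
    exact N.mul_mem (N.mul_mem (hHN hh) htN) (hMN hn')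

/-- The order count excludes the odd fields above five. -/
theorem odd_field_five {K : Type} [Field K] [Fintype K] {H E : Subgroup G} {t : G} (hD : TIData H)
    (hE : TIShape H E t) (hK2 : Fintype.card K % 2 = 1) (h4 : 4 ≤ Fintype.card K)
    (e : G ≃* Matrix.ProjectiveSpecialLinearGroup (Fin 2) K) : Fintype.card K = 5 := by
  by_contra h5
  have h7 : 7 ≤ Fintype.card K := by omega
  obtain ⟨z, hzH, hz2, hzc⟩ := hD.central
  have hz1 : z ≠ 1 := fun h => by rw [h, orderOf_one] at hz2; omega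
  have hC : centralizer ({z} : Set G) = H := le_antisymm (hD.cent z hzH hz1)
    fun h hh => mem_centralizer_singleton_iff.2 (hzc h hh)
  have hcent : ∀ a ∈ H, orderOf a = 2 → ∀ h ∈ H, Commute h a := by
    intro a ha ha2 h hh
    obtain ⟨⟨x, hx⟩, hxa, -⟩ := hE.regular z hzH a ha hz2 ha2
    have h0 : (Commute (x⁻¹ * h * x) z) :=
      hzc _ (by simpa using (mem_normalizer_iff.1 (inv_mem (hE.le_normalizer hx)) h).1 hh)
    have h1 := (MinNonCA.commute_conj_iff (h := x)).2 h0
    rwa [show x * (x⁻¹ * h * x) * x⁻¹ = h by group, hxa] at h1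
  let W : Subgroup G :=
    { carrier := {a | a ∈ H ∧ a ^ 2 = 1}
      one_mem' := ⟨one_mem _, one_pow 2⟩
      mul_mem' := fun {a b} ha hb => ⟨mul_mem ha.1 hb.1, by
        by_cases hb1 : b = 1
        · rw [hb1, mul_one]; exact ha.2
        rw [(hcent b hb.1 (orderOf_eq_prime hb.2 hb1) a ha.1).mul_pow, ha.2, hb.2, one_mul]⟩
      inv_mem' := fun {a} ha => ⟨inv_mem ha.1, by rw [inv_pow, ha.2, inv_one]⟩ }
  have hW : Nat.card W = Nat.card E + 1 := by
    classical
    rw [hE.card_eq, ← Finite.card_option]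
    exact Nat.card_congr
      { toFun := fun w => if h : (w : G) = 1 then none else some ⟨w, w.2.1, orderOf_eq_prime w.2.2 h⟩
        invFun := fun o => o.elim 1 fun a => ⟨a.1, a.2.1, sq_eq_one_of_orderOf a.2.2⟩
        left_inv := fun w => by
          by_cases h : (w : G) = 1
          · simp only [h, ↓reduceDIte, Option.elim_none]
            exact Subtype.ext h.symm
          · simp only [h, ↓reduceDIte, Option.elim_some]
        right_inv := fun o => by
          rcases o with _ | a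
          · simp
          · have ha : (a : G) ≠ 1 := fun h => by
              have := a.2.2
              rw [h, orderOf_one] at this
              omega
            simp [ha] }
  have hWH : Nat.card E + 1 ∣ Nat.card H := hW ▸ card_dvd_of_le (fun a ha => ha.1)
  have hG : Nat.card G = Nat.card H * Nat.card E * (Nat.card H + 1) := by
    rw [← card_mul_index (normalizer (H : Set G)), hE.index_eq, ← hE.sup_eq,
      card_sup_eq_mul_of_inf_bot hE.le_normalizer hE.inf_eq]
  have hK := Cfsg.Lib.Linear.Two.card_PSL_two (F := K)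
  rw [Nat.gcd_eq_left (show 2 ∣ Fintype.card K - 1 by omega), ← Nat.card_congr e.toEquiv, hG] at hK
  have hx : (e z) ^ 2 = 1 ∧ e z ≠ 1 :=
    ⟨by rw [← map_pow, sq_eq_one_of_orderOf hz2, map_one], fun h => hz1 ((MulEquiv.map_eq_one_iff e).1 h)⟩
  obtain ⟨hc1, hc3⟩ := Cfsg.Lib.Dickson.card_centralizer_involution (F := K) hK2 h7 hx.1 hx.2
  have hcard : Nat.card H = Nat.card (centralizer ({e z} : Set _)) := by
    rw [← hC]
    refine Nat.card_congr (Equiv.subtypeEquiv e.toEquiv fun a => ?_)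
    rw [MinNonCA.mem_cent, MinNonCA.mem_cent]
    exact ⟨fun h => h.map e, fun h => h.of_map e.injective⟩
  obtain ⟨q, hq⟩ : ∃ q, Fintype.card K = q + 1 := ⟨Fintype.card K - 1, by omega⟩
  rw [hq] at hK hc1 hc3 h7 hK2
  rw [show (q + 1) ^ 2 - 1 = q * (q + 2) by
    rw [show (q + 1) ^ 2 = q * (q + 2) + 1 by ring, Nat.add_sub_cancel]] at hK
  rcases (by omega : (q + 1) % 4 = 1 ∨ (q + 1) % 4 = 3) with h | h
  · have hc : Nat.card H = q := by rw [hcard, hc1 h]; rfl
    rw [hc] at hK hWH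
    have h1 : (q * (q + 1)) * (2 * Nat.card E) = (q * (q + 1)) * (q + 2) := by
      calc _ = 2 * (q * Nat.card E * (q + 1)) := by ring
        _ = _ := by rw [hK]; ring
    have h2 := Nat.eq_of_mul_eq_mul_left (Nat.mul_pos (by omega) (by omega)) h1
    obtain ⟨k, hk⟩ := hWH
    rcases (by omega : k = 0 ∨ k = 1 ∨ 2 ≤ k) with rfl | rfl | hk2
    · omega
    · omega
    · have : (Nat.card E + 1) * 2 ≤ (Nat.card E + 1) * k := Nat.mul_le_mul_left _ hk2
      omega
  · have hc : Nat.card H = q + 2 := by rw [hcard, hc3 h]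
    rw [hc] at hK
    have h1 : (q + 2) * (2 * (Nat.card E * (q + 3))) = (q + 2) * ((q + 1) * q) := by
      calc _ = 2 * ((q + 2) * Nat.card E * (q + 2 + 1)) := by ring
        _ = _ := by rw [hK]; ring
    have h2 := Nat.eq_of_mul_eq_mul_left (by omega) h1
    have h3 : ((q : ℤ) + 3) * ((q : ℤ) - 2 - 2 * (Nat.card E : ℤ)) = -6 := by
      have : (2 : ℤ) * ((Nat.card E : ℤ) * ((q : ℤ) + 3)) = ((q : ℤ) + 1) * q := by exact_mod_cast h2
      linarith
    rcases (by omega : (q : ℤ) - 2 - 2 * (Nat.card E : ℤ) ≤ -1 ∨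
      0 ≤ (q : ℤ) - 2 - 2 * (Nat.card E : ℤ)) with h' | h' <;> nlinarith

/-- Groups with a Frobenius system, given the TI counting theorem. -/
theorem frobSystem_classification (hti : TIHolds.{u}) (hF : FrobSystem F) :
    Group.IsSolvable G ∨
      (∃ (K : Type) (_ : Field K) (_ : Fintype K), (∃ n : ℕ, 2 ≤ n ∧ Fintype.card K = 2 ^ n) ∧
        Nonempty (G ≃* Matrix.SpecialLinearGroup (Fin 2) K)) ∨
      Cfsg.Lie.IsoSuzuki G := by
  by_cases hns : Group.IsSolvable G
  · exact Or.inl hns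
  refine Or.inr ?_
  obtain ⟨M, hM, z, hz, hz2⟩ := hF.exists_even hns
  have hne : F M ≠ ⊥ := fun e => by
    rw [e, mem_bot] at hz
    rw [hz, orderOf_one] at hz2
    omega
  have hD := hF.tiData hns hM hz hz2
  obtain ⟨E, t, hE⟩ := hti G (F M) hD
  haveI hs := hF.simple hns hM hne hD hE
  rcases Cfsg.Agent.S0340.result (zassenhaus_of_shape hD hE) with ⟨K, iK, jK, ⟨e⟩⟩ | h
  swap
  · exact Or.inr (Cfsg.Lib.SuzUnique.isoSuzuki_of_isSuzuki (zassenhaus_of_shape hD hE) h)
  left
  have hnK : ¬ Group.IsSolvable (Matrix.ProjectiveSpecialLinearGroup (Fin 2) K) := fun h => hns (by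
    haveI := h
    exact Group.isSolvable_of_isSolvable_injective (f := e.toMonoidHom) e.injective)
  have hK : 4 ≤ Fintype.card K := by
    by_contra hlt
    have h1 : 1 < Fintype.card K := Fintype.one_lt_card
    have hK0 := Cfsg.Lib.Linear.Two.card_PSL_two (F := K)
    rcases (by omega : Fintype.card K = 2 ∨ Fintype.card K = 3) with h | h
    · refine hnK (Cfsg.Lib.GW.isSolvable_of_not_four_dvd ?_)
      rw [h] at hK0
      norm_num at hK0
      omega
    · exact hnK (Cfsg.Lib.Dickson.isSolvable_psl_two_three h)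
  rcases Nat.mod_two_eq_zero_or_one (Fintype.card K) with h | h
  · obtain ⟨p, hpp, hp, n, hn0, hn⟩ := Cfsg.Lib.Dickson.exists_char (F := K)
    have hp2 : p = 2 := by
      rcases hpp.eq_two_or_odd with e' | e'
      · exact e'
      · rw [hn, Nat.pow_mod, e'] at h
        simp at h
    subst hp2
    refine ⟨K, iK, jK, ⟨n, ?_, hn⟩, ⟨e.trans Cfsg.Lib.Spec.pslEquivOfCharTwo⟩⟩
    by_contra hn2
    have : n = 1 := by omega
    rw [this] at hn
    omega
  · have h5 := odd_field_five hD hE h hK e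
    haveI : Fact (Nat.Prime 2) := ⟨Nat.prime_two⟩
    let K' := GaloisField 2 2
    haveI : Fintype K' := Fintype.ofFinite K'
    have h4 : Fintype.card K' = 4 := by
      rw [← Nat.card_eq_fintype_card]; exact GaloisField.card 2 2 (by norm_num)
    obtain ⟨a⟩ := Cfsg.Agent.S0253.result (F := K) h5
    obtain ⟨b⟩ := Cfsg.Agent.S0252.result (F := K') h4
    exact ⟨K', inferInstance, inferInstance, ⟨2, le_rfl, h4⟩,
      ⟨((e.trans a).trans b.symm).trans Cfsg.Lib.Spec.pslEquivOfCharTwo⟩⟩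

end Cfsg.Lib.CIT.Consumers
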