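import Cfsg.Agent.S3992
import Cfsg.Agent.S0033
import Cfsg.Agent.Lib.CIT.Basic
import Cfsg.Agent.Lib.Core.Basic
import Cfsg.Agent.Lib.Solv.FixedPointFree
import Cfsg.Agent.Lib.Local.Baumann.Setup

/-!
Groups in which every element has prime-power order: tori of prime order in a simple normal subgroup,
and the obstruction they give to a normal `p`-subgroup.
-/

set_option autoImplicit false
set_option linter.style.haveILetI false

namespace Cfsg.Lib.CIT

open Subgroup
open Cfsg.Lib
open scoped Pointwise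

universe u

/-- Every non-identity element has prime-power order. -/
def IsEppo (G : Type u) [Group G] : Prop := ∀ g : G, g ≠ 1 → IsPrimePow (orderOf g)

variable {G : Type u} [Group G]

theorem IsEppo.of_injective (hG : IsEppo G) {L : Type u} [Group L] (f : L →* G)
    (hf : Function.Injective f) : IsEppo L := fun x hx => by
  rw [← orderOf_injective f hf x]
  exact hG _ fun e => hx (hf (e.trans f.map_one.symm))

theorem IsEppo.subgroup (hG : IsEppo G) (H : Subgroup G) : IsEppo ↥H :=
  hG.of_injective H.subtype H.subtype_injective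

variable [Finite G]

theorem IsEppo.quotient (hG : IsEppo G) (R : Subgroup G) [R.Normal] : IsEppo (G ⧸ R) :=
  fun x hx => Cfsg.Agent.S3992.isPrimePow_quotient hG R x hx

/-- The centralizer of a non-identity `r`-element is an `r`-group. -/
theorem IsEppo.isPGroup_centralizer (hG : IsEppo G) {r : ℕ} [hr : Fact r.Prime] {x : G}
    (hx : orderOf x = r) {S : Set G} (hxS : x ∈ S) : IsPGroup r (centralizer S) := by
  rw [IsPGroup.iff_orderOf]
  rintro ⟨y, hy⟩
  rw [Subgroup.orderOf_mk]
  rcases eq_or_ne y 1 with rfl | hy1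
  · exact ⟨0, by simp⟩
  obtain ⟨w, n, hw, hn, hwn⟩ := hG y hy1
  have hw' : w.Prime := Nat.prime_iff.mpr hw
  haveI := Fact.mk hw'
  have hyw : orderOf (y ^ (orderOf y / w)) = w :=
    orderOf_pow_orderOf_div (orderOf_pos y).ne' (hwn ▸ dvd_pow_self w hn.ne')
  exact ⟨n, by rw [← hwn, Cfsg.Agent.S3992.eq_of_commute hG hyw hx
    ((show Commute x y from mem_centralizer_iff.1 hy x hxS).symm.pow_left _)]⟩

theorem IsEppo.isCIT (hG : IsEppo G) : IsCIT G := fun t ht =>
  haveI : Fact (Nat.Prime 2) := ⟨Nat.prime_two⟩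
  hG.isPGroup_centralizer ht rfl

/-- The normalizer of a subgroup of prime order `r`: an `r`-group by a cyclic group of prime-power order
dividing `r - 1`. -/
theorem IsEppo.card_normalizer (hG : IsEppo G) {r : ℕ} [hr : Fact r.Prime] {P : Subgroup G}
    (hP : Nat.card P = r) : ∃ c e : ℕ, Nat.card ↥(normalizer (P : Set G)) = r ^ c * e ∧
      Nat.card ↥(centralizer (P : Set G)) = r ^ c ∧ e ∣ r - 1 ∧ (e = 1 ∨ IsPrimePow e) := by
  classical
  haveI : IsCyclic ↥P := isCyclic_of_prime_card hP
  obtain ⟨⟨x, hxP⟩, hxo⟩ := exists_prime_orderOf_dvd_card' (G := ↥P) r hP.symm.dvd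
  rw [Subgroup.orderOf_mk] at hxo
  obtain ⟨c, hc⟩ := (hG.isPGroup_centralizer (S := (P : Set G)) hxo hxP).exists_card_eq
  set φ := P.normalizerMonoidHom
  have hker : φ.ker = (centralizer (P : Set G)).subgroupOf (normalizer (P : Set G)) :=
    P.normalizerMonoidHom_ker
  have hkc : Nat.card φ.ker = r ^ c := by
    rw [hker, Nat.card_congr (subgroupOfEquivOfLe (centralizer_le_normalizer _)).toEquiv, hc]
  haveI : IsCyclic (MulAut ↥P) := by
    haveI : IsCyclic (ZMod (Nat.card ↥P))ˣ := by
      rw [hP]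
      exact inferInstance
    exact isCyclic_of_surjective (IsCyclic.mulAutMulEquiv ↥P).symm (IsCyclic.mulAutMulEquiv ↥P).symm.surjective
  haveI : IsCyclic φ.range := inferInstance
  refine ⟨c, Nat.card φ.range, ?_, hc, ?_, ?_⟩
  · rw [← hkc, ← Subgroup.index_ker]; exact φ.ker.card_mul_index.symm
  · refine (Subgroup.card_subgroup_dvd_card φ.range).trans ?_
    rw [Nat.card_congr (IsCyclic.mulAutMulEquiv ↥P).toEquiv, Nat.card_eq_fintype_card, ZMod.card_units_eq_totient,
      hP, Nat.totient_prime hr.out]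
  · obtain ⟨⟨_, g, rfl⟩, hg⟩ := IsCyclic.exists_ofOrder_eq_natCard (α := φ.range)
    rw [← orderOf_coe] at hg
    rw [← hg]
    by_cases h1 : orderOf (φ g) = 1
    · exact Or.inl h1
    right
    have hd : orderOf (φ g) ∣ orderOf (g : G) := by rw [orderOf_coe]; exact orderOf_map_dvd φ g
    refine IsPrimePow.dvd (hG _ fun e => h1 ?_) hd h1
    rw [show g = 1 from Subtype.ext e, map_one, orderOf_one]

/-- A Sylow subgroup of prime order `r` in a subgroup `M` of order `n`. -/
theorem IsEppo.exists_torus (hG : IsEppo G) {n r : ℕ} [hr : Fact r.Prime] {M : Subgroup G}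
    (hM : Nat.card M = n) (h1 : r ∣ n) (h2 : ¬ r ^ 2 ∣ n) :
    ∃ (P : Sylow r M) (a : ℕ), Nat.card (P : Subgroup M) = r ∧
      Nat.card ↥(normalizer ((P : Subgroup M) : Set M)) = r * a ∧ a ∣ r - 1 ∧ r * a ∣ n ∧
      n / (r * a) % r = 1 := by
  obtain ⟨P⟩ : Nonempty (Sylow r M) := inferInstance
  have hn0 : n ≠ 0 := hM ▸ Nat.card_pos.ne'
  have hPc : Nat.card (P : Subgroup M) = r := by
    rw [P.card_eq_multiplicity, hM]
    have e1 : 1 ≤ n.factorization r := (Nat.Prime.dvd_iff_one_le_factorization hr.out hn0).1 h1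
    have e2 : n.factorization r < 2 := by
      by_contra h
      exact h2 ((hr.out.pow_dvd_iff_le_factorization hn0).2 (not_lt.1 h))
    rw [show n.factorization r = 1 by omega, pow_one]
  obtain ⟨c, a, hN, hC, ha, -⟩ := (hG.subgroup M).card_normalizer hPc
  haveI : IsCyclic ↥(P : Subgroup M) := isCyclic_of_prime_card hPc
  have hle : (P : Subgroup M) ≤ centralizer ((P : Subgroup M) : Set M) := fun x hx =>
    mem_centralizer_iff.2 fun y hy =>
      congrArg Subtype.val ((IsCyclic.commGroup (α := ↥(P : Subgroup M))).mul_comm ⟨y, hy⟩ ⟨x, hx⟩)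
  have hc : c = 1 := by
    have h3 := (P.3 (IsPGroup.of_card hC) hle)
    rw [h3, hPc] at hC
    exact (Nat.pow_eq_self_iff hr.out.one_lt).1 hC.symm
  subst hc
  rw [pow_one] at hN
  have hd : r * a ∣ n := hM ▸ hN ▸ Subgroup.card_subgroup_dvd_card _
  refine ⟨P, a, hPc, hN, ha, hd, ?_⟩
  have h4 : Nat.card (Sylow r M) = n / (r * a) := by
    rw [P.card_eq_index_normalizer]
    refine (Nat.div_eq_of_eq_mul_right (hN ▸ Nat.card_pos) ?_).symm
    rw [← hN]
    exact (hM.symm.trans (Subgroup.card_mul_index _).symm)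
  rw [← h4]
  have := card_sylow_modEq_one r M
  rwa [Nat.ModEq, Nat.one_mod_eq_one.2 hr.out.one_lt.ne'] at this

/-- The index of a normal subgroup, read off from a torus. -/
theorem IsEppo.index_eq (hG : IsEppo G) {M : Subgroup G} [M.Normal] {r : ℕ} [hr : Fact r.Prime]
    (P : Sylow r M) (hP : Nat.card (P : Subgroup M) = r) {a : ℕ}
    (ha : Nat.card ↥(normalizer ((P : Subgroup M) : Set M)) = r * a) (har : a ∣ r - 1) :
    ∃ c e : ℕ, M.index * (r * a) = r ^ c * e ∧ a ∣ e ∧ e ∣ r - 1 ∧ (e = 1 ∨ IsPrimePow e) := by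
  set Q := (P : Subgroup M).map M.subtype with hQ
  have hQc : Nat.card Q = r := by rw [hQ, Core.card_map_subtype, hP]
  obtain ⟨c, e, hN, -, he, hpp⟩ := hG.card_normalizer hQc
  have htop : normalizer (Q : Set G) ⊔ M = ⊤ := P.normalizer_sup_eq_top
  have hinf : (M ⊓ normalizer (Q : Set G)) = (normalizer ((P : Subgroup M) : Set M)).map M.subtype := by
    have h1 : ∀ y : M, (y : G) ∈ Q ↔ y ∈ (P : Subgroup M) := fun y => by
      rw [hQ]; exact mem_map_iff_mem M.subtype_injective
    ext x
    constructor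
    · rintro ⟨hxM, hxN⟩
      refine ⟨⟨x, hxM⟩, mem_normalizer_iff.2 fun y => ?_, rfl⟩
      rw [← h1, ← h1]
      exact mem_normalizer_iff.1 hxN y
    · rintro ⟨z, hz, rfl⟩
      refine ⟨z.2, mem_normalizer_fintype ?_⟩
      rintro _ ⟨y, hy, rfl⟩
      exact ⟨z * y * z⁻¹, (mem_normalizer_iff.1 hz y).1 hy, rfl⟩
  have h2 : Nat.card ↥(M ⊓ normalizer (Q : Set G) : Subgroup G) = r * a := by
    rw [hinf, Core.card_map_subtype, ha]
  have h3 := Local.Baumann.card_sup_mul_inf (A := M) (B := normalizer (Q : Set G))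
    (by rw [normalizer_eq_top_iff.2 (inferInstance : M.Normal)]; exact le_top)
  rw [sup_comm, htop, Subgroup.card_top, h2, hN, ← M.card_mul_index] at h3
  have h4 : M.index * (r * a) = r ^ c * e :=
    Nat.eq_of_mul_eq_mul_left (Nat.card_pos (α := M)) (by rw [← h3, mul_assoc])
  refine ⟨c, e, h4, ?_, he, hpp⟩
  have hco : a.Coprime (r ^ c) := by
    refine Nat.Coprime.pow_right c (Nat.Coprime.symm (hr.out.coprime_iff_not_dvd.2 fun hd => ?_))
    have h5 := Nat.le_of_dvd (Nat.sub_pos_of_lt hr.out.one_lt) (hd.trans har)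
    have := hr.out.pos
    omega
  exact hco.dvd_of_dvd_mul_left ⟨M.index * r, by rw [← h4]; ring⟩

/-- Two tori determine the index to be one. -/
theorem IsEppo.index_eq_one (hG : IsEppo G) {n : ℕ} {M : Subgroup G} [M.Normal] (hM : Nat.card M = n)
    {r s : ℕ} [hr : Fact r.Prime] [hs : Fact s.Prime] (hr1 : r ∣ n) (hr2 : ¬ r ^ 2 ∣ n) (hs1 : s ∣ n)
    (hs2 : ¬ s ^ 2 ∣ n) (hrs : r ≠ s) (hrs' : ¬ r ∣ s - 1)
    (hu : ∀ a < r, a ∣ r - 1 → r * a ∣ n → n / (r * a) % r = 1 →
      ∀ e < r, e ∣ r - 1 → a ∣ e → (e = 1 ∨ IsPrimePow e) → e = a) :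
    M = ⊤ := by
  obtain ⟨P, a, hP, haN, ha, ha', hamod⟩ := hG.exists_torus hM hr1 hr2
  obtain ⟨c, e, he, hae, her, hpp⟩ := hG.index_eq P hP haN ha
  obtain ⟨P', a', hP', haN', ha'', -, -⟩ := hG.exists_torus hM hs1 hs2
  obtain ⟨c', e', he', -, her', -⟩ := hG.index_eq P' hP' haN' ha''
  have hlt : ∀ {x}, x ∣ r - 1 → x < r := fun hx => by
    have := Nat.le_of_dvd (Nat.sub_pos_of_lt hr.out.one_lt) hx
    have := hr.out.pos; omega
  have hea : e = a := hu a (hlt ha) ha ha' hamod e (hlt her) her hae hpp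
  rw [hea, ← mul_assoc] at he
  have ha0 : 0 < a := Nat.pos_of_dvd_of_pos ha (Nat.sub_pos_of_lt hr.out.one_lt)
  have h1 : M.index * r = r ^ c := Nat.eq_of_mul_eq_mul_right ha0 he
  obtain ⟨j, -, hj⟩ := (Nat.dvd_prime_pow hr.out).1 ⟨r, h1.symm⟩
  rw [← Subgroup.index_eq_one, hj]
  rcases j with _ | j
  · rfl
  exfalso
  have hd : r ∣ s ^ c' * e' := by
    rw [← he', hj]; exact (dvd_pow_self r j.succ_ne_zero).mul_right _
  rcases hr.out.dvd_mul.1 hd with h | h
  · exact hrs ((Nat.prime_dvd_prime_iff_eq hr.out hs.out).1 (hr.out.dvd_of_dvd_pow h))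
  · exact hrs' (h.trans her')

/-- A normal `p`-subgroup is trivial when the quotient has a suitable torus. -/
theorem IsEppo.radical_eq_bot (hG : IsEppo G) {R : Subgroup G} [hRn : R.Normal] {p : ℕ} [hp : Fact p.Prime]
    (hR : IsPGroup p R) {r s : ℕ} [hr : Fact r.Prime] [hs : Fact s.Prime] (hpr : p ≠ r) (hps : p ≠ s)
    (hrs : r ≠ s) {P : Subgroup (G ⧸ R)} (hP : Nat.card P = r) {x : G ⧸ R} (hxo : orderOf x = s)
    (hxn : x ∈ normalizer (P : Set (G ⧸ R))) : R = ⊥ := by
  classical
  by_contra hR1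
  set X : Subgroup (G ⧸ R) := P ⊔ zpowers x
  have hcopPx : P ⊓ zpowers x = ⊥ := inf_eq_bot_of_coprime (by
    rw [hP, Nat.card_zpowers, hxo]; exact (Nat.coprime_primes hr.out hs.out).2 hrs)
  have hXc : Nat.card X = r * s := by
    have h1 := Local.Baumann.card_sup_mul_inf (A := P) (B := zpowers x) ((zpowers_le).2 hxn)
    rw [hcopPx, Subgroup.card_bot, mul_one, hP, Nat.card_zpowers, hxo] at h1
    exact h1
  -- the preimage splits over `R`
  set L := X.comap (QuotientGroup.mk' R) with hL
  have hRL : R ≤ L := fun y hy => by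
    show QuotientGroup.mk' R y ∈ X
    rw [show QuotientGroup.mk' R y = 1 from (QuotientGroup.eq_one_iff y).2 hy]; exact one_mem _
  have hidx : (R.subgroupOf L).index = r * s := by
    have h1 := relIndex_comap (⊥ : Subgroup (G ⧸ R)) (QuotientGroup.mk' R) L
    rw [MonoidHom.comap_bot, QuotientGroup.ker_mk', relIndex_bot_left, hL,
      map_comap_eq_self_of_surjective (QuotientGroup.mk'_surjective R), hXc] at h1
    exact h1
  obtain ⟨k, hk⟩ := hR.exists_card_eq
  have hco : (Nat.card (R.subgroupOf L)).Coprime (R.subgroupOf L).index := by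
    rw [Nat.card_congr (subgroupOfEquivOfLe hRL).toEquiv, hk, hidx]
    exact (Nat.Coprime.mul_right ((Nat.coprime_primes hp.out hr.out).2 hpr)
      ((Nat.coprime_primes hp.out hs.out).2 hps)).pow_left k
  obtain ⟨B', hB'⟩ := exists_right_complement'_of_coprime hco
  set B := B'.map L.subtype with hB
  have hBc : Nat.card B = r * s := by
    rw [hB, Core.card_map_subtype, ← hB'.symm.index_eq_card, hidx]
  have hfpfR : ∀ b ∈ B, b ≠ 1 → R ⊓ centralizer {b} = ⊥ := by
    intro b hb hb1
    by_contra hne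
    obtain ⟨v, hv, hv1⟩ := (bot_or_exists_ne_one _).resolve_left hne
    obtain ⟨t, ht, htd⟩ := Nat.exists_prime_and_dvd (n := orderOf b) (fun e => hb1 (orderOf_eq_one_iff.1 e))
    haveI := Fact.mk ht
    have htp : t ≠ p := by
      rintro rfl
      have h1 : t ∣ r * s := hBc ▸ htd.trans (by
        simpa [orderOf_mk] using orderOf_dvd_natCard (⟨b, hb⟩ : B))
      rcases ht.dvd_mul.1 h1 with h | h
      · exact hpr ((Nat.prime_dvd_prime_iff_eq ht hr.out).1 h)
      · exact hps ((Nat.prime_dvd_prime_iff_eq ht hs.out).1 h)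
    obtain ⟨j, hj⟩ := IsPGroup.iff_orderOf.1 hR ⟨v, hv.1⟩
    rw [Subgroup.orderOf_mk] at hj
    have hj0 : j ≠ 0 := by rintro rfl; exact hv1 (orderOf_eq_one_iff.1 (by simpa using hj))
    exact htp (Cfsg.Agent.S3992.eq_of_commute hG
      (orderOf_pow_orderOf_div (orderOf_pos b).ne' htd)
      (orderOf_pow_orderOf_div (orderOf_pos v).ne' (hj ▸ dvd_pow_self p hj0))
      ((show Commute v b from mem_centralizer_singleton_iff.1 hv.2).symm.pow_pow _ _))
  -- an abelian normal subgroup inside `R`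
  set V := (center R).map R.subtype with hV
  have hVR : V ≤ R := map_subtype_le _
  haveI : V.Normal := ConjAct.normal_of_characteristic_of_normal
  haveI : Nontrivial R := (nontrivial_iff_ne_bot R).2 hR1
  haveI := hR.center_nontrivial
  have hV1 : V ≠ ⊥ := fun e => by
    rw [hV, map_eq_bot_iff_of_injective _ R.subtype_injective] at e
    exact (nontrivial_iff_ne_bot (center R)).1 inferInstance e
  haveI : IsMulCommutative V := ⟨⟨fun a b => by
    obtain ⟨a', ha', ea⟩ := a.2
    obtain ⟨b', -, eb⟩ := b.2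
    exact Subtype.ext (by
      rw [Subgroup.coe_mul, Subgroup.coe_mul, ← ea, ← eb, ← map_mul, ← map_mul, (mem_center_iff.1 ha' b').symm])⟩⟩
  have hfpf : ∀ b ∈ B, b ≠ 1 → V ⊓ centralizer {b} = ⊥ := fun b hb hb1 =>
    le_bot_iff.1 ((inf_le_inf_right _ hVR).trans (hfpfR b hb hb1).le)
  have hBV : B ≤ normalizer (V : Set G) := by
    rw [normalizer_eq_top_iff.2 (inferInstance : V.Normal)]; exact le_top
  obtain ⟨a, hao⟩ := exists_prime_orderOf_dvd_card' (G := B) s (hBc ▸ dvd_mul_left s r)
  refine Solv.not_fpf_frobenius_abelian hV1 hBV hfpf (zpowers a) ?_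
  have hBeppo := hG.subgroup B
  have hA : Nat.card (zpowers a) = s := by rw [Nat.card_zpowers, hao]
  have hs1 : zpowers a ≠ ⊥ := fun e => by
    rw [e, Subgroup.card_bot] at hA; exact hs.out.ne_one hA.symm
  refine ⟨hs1, fun e => ?_, fun g hg => ?_⟩
  · rw [e, Subgroup.card_top, hBc] at hA
    exact hr.out.ne_one ((Nat.mul_eq_right hs.out.ne_zero).1 hA)
  · by_contra hne
    have hAg : MulAut.conj g • zpowers a = zpowers a := by
      have h1 : Nat.card ↥(MulAut.conj g • zpowers a) = s := by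
        rw [← hA]; exact (Nat.card_congr (Subgroup.equivSMul _ _).toEquiv).symm
      have h2 := Subgroup.card_dvd_of_le (inf_le_left : zpowers a ⊓ MulAut.conj g • zpowers a ≤ zpowers a)
      rw [hA] at h2
      have h3 : Nat.card ↥(zpowers a ⊓ MulAut.conj g • zpowers a) = s :=
        ((Nat.dvd_prime hs.out).1 h2).resolve_left fun e => hne ((eq_bot_iff_card _).2 e)
      have e1 := Subgroup.eq_of_le_of_card_ge (inf_le_left : zpowers a ⊓ MulAut.conj g • zpowers a ≤ zpowers a)
        (by rw [h3, hA])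
      have e2 := Subgroup.eq_of_le_of_card_ge (inf_le_right : zpowers a ⊓ MulAut.conj g • zpowers a ≤ _)
        (by rw [h3, h1])
      exact e2.symm.trans e1
    -- then the complement is normal, and `B` is cyclic
    have hnA : (zpowers a).Normal := by
      rw [← normalizer_eq_top_iff]
      have hgN : g ∈ normalizer (zpowers a : Set B) := mem_normalizer_fintype fun y hy => by
        rw [← hAg]; exact ⟨y, hy, rfl⟩
      have hle : zpowers a ≤ normalizer (zpowers a : Set B) := le_normalizer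
      have h1 := Subgroup.index_dvd_of_le hle
      have h2 : (zpowers a).index = r := by
        have h := (zpowers a).card_mul_index
        rw [hA, hBc, mul_comm r] at h
        exact Nat.eq_of_mul_eq_mul_left hs.out.pos h
      rw [h2] at h1
      rcases (Nat.dvd_prime hr.out).1 h1 with h | h
      · exact Subgroup.index_eq_one.1 h
      · exfalso
        have h3 : Nat.card ↥(normalizer (zpowers a : Set B)) = s := by
          have h' := (normalizer (zpowers a : Set B)).card_mul_index
          rw [h, hBc, mul_comm r] at h'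
          exact Nat.eq_of_mul_eq_mul_right hr.out.pos h'
        exact hg ((Subgroup.eq_of_le_of_card_ge hle (by rw [h3, hA])).ge hgN)
    obtain ⟨b, hbo⟩ := exists_prime_orderOf_dvd_card' (G := B) r (hBc ▸ dvd_mul_right r s)
    -- `b` normalizes `zpowers a`; `a` normalizes `zpowers b` modulo `R`
    let f : ↥B →* G ⧸ R := (QuotientGroup.mk' R).comp B.subtype
    have hBR : ∀ y : B, f y = 1 → y = 1 := by
      intro y hy
      have hyR : (y : G) ∈ R := (QuotientGroup.eq_one_iff _).1 hy
      obtain ⟨z, hz, hze⟩ : (y : G) ∈ B'.map L.subtype := y.2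
      have hzR : z ∈ R.subgroupOf L := mem_subgroupOf.2 (by
        show (z : G) ∈ R
        rw [show (z : G) = (y : G) from hze]; exact hyR)
      have := hB'.disjoint.le_bot ⟨hzR, hz⟩
      rw [mem_bot] at this
      exact Subtype.ext (by rw [← hze, this]; rfl)
    have hcomm : Commute (f a) (f b) := by
      have hk : b * a * b⁻¹ ∈ zpowers a := hnA.conj_mem a (mem_zpowers a) b
      have hfX : ∀ y : B, f y ∈ X := fun y => by
        obtain ⟨z, -, hze⟩ : (y : G) ∈ B'.map L.subtype := y.2
        show QuotientGroup.mk' R (y : G) ∈ X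
        rw [← hze]; exact z.2
      have hPn : ∀ y : B, f y ∈ normalizer (P : Set (G ⧸ R)) := fun y =>
        (sup_le le_normalizer ((zpowers_le).2 hxn) : X ≤ normalizer (P : Set (G ⧸ R))) (hfX y)
      have hfb : f b ∈ P := by
        by_contra hfb
        have h1 : P ⊓ zpowers (f b) = ⊥ := by
          rw [eq_bot_iff]
          intro y hy
          rw [mem_bot]
          by_contra hy1
          have h2 : Nat.card (zpowers (f b)) ∣ r := by rw [Nat.card_zpowers, ← hbo]; exact orderOf_map_dvd f b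
          have h3 : zpowers y = zpowers (f b) := by
            refine Subgroup.eq_of_le_of_card_ge ((zpowers_le).2 hy.2) (Nat.le_of_dvd ?_ (h2.trans ?_))
            · exact Nat.card_pos
            · have := Subgroup.card_dvd_of_le ((zpowers_le).2 hy.1 : zpowers y ≤ P)
              rw [hP] at this
              rcases (Nat.dvd_prime hr.out).1 this with e | e
              · exact absurd (zpowers_eq_bot.1 ((eq_bot_iff_card _).2 e)) hy1
              · rw [e]
          exact hfb ((h3 ▸ (zpowers_le).2 hy.1 : zpowers (f b) ≤ P) (mem_zpowers _))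
        have h2 := Local.Baumann.card_sup_mul_inf (A := P) (B := zpowers (f b)) ((zpowers_le).2 (hPn b))
        rw [h1, Subgroup.card_bot, mul_one, hP, Nat.card_zpowers] at h2
        have h3 := Subgroup.card_dvd_of_le (sup_le le_sup_left ((zpowers_le).2 (hfX b)) : P ⊔ zpowers (f b) ≤ X)
        rw [h2, hXc] at h3
        have h4 : orderOf (f b) ∣ s := Nat.dvd_of_mul_dvd_mul_left hr.out.pos h3
        have h5 : orderOf (f b) ∣ r := hbo ▸ orderOf_map_dvd f b
        have h6 := Nat.eq_one_of_dvd_coprimes ((Nat.coprime_primes hr.out hs.out).2 hrs) h5 h4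
        exact hfb (orderOf_eq_one_iff.1 h6 ▸ one_mem P)
      have hk' : f b * f a * (f b)⁻¹ * (f a)⁻¹ ∈ P ⊓ zpowers (f a) := by
        refine ⟨?_, ?_⟩
        · rw [show f b * f a * (f b)⁻¹ * (f a)⁻¹ = f b * (f a * (f b)⁻¹ * (f a)⁻¹) by group]
          exact mul_mem hfb ((mem_normalizer_iff.1 (hPn a) _).1 (inv_mem hfb))
        · show f b * f a * (f b)⁻¹ * (f a)⁻¹ ∈ zpowers (f a)
          refine mul_mem ?_ (inv_mem (mem_zpowers _))
          obtain ⟨i, hi⟩ := mem_zpowers_iff.1 hk
          rw [← map_mul, ← map_inv, ← map_mul, ← hi, map_zpow]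
          exact zpow_mem (mem_zpowers _) i
      have h0 : P ⊓ zpowers (f a) = ⊥ := inf_eq_bot_of_coprime (by
        rw [hP, Nat.card_zpowers]
        exact ((Nat.coprime_primes hr.out hs.out).2 hrs).of_dvd_right (hao ▸ orderOf_map_dvd f a))
      rw [h0, mem_bot, mul_inv_eq_one, mul_inv_eq_iff_eq_mul] at hk'
      exact hk'.symm
    have hab : Commute a b := by
      refine mul_inv_eq_one.1 (hBR (a * b * (b * a)⁻¹) ?_)
      rw [map_mul, map_inv, map_mul, map_mul, hcomm.eq, mul_inv_cancel]
    exact hrs (Cfsg.Agent.S3992.eq_of_commute hBeppo hbo hao hab.symm)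

/-- The primes of an extension of a simple group are those of the simple group. -/
theorem IsEppo.dvd_card_of_dvd (hG : IsEppo G) {M : Subgroup G} [hMn : M.Normal]
    (hns : ¬ Group.IsSolvable M) {r : ℕ} (hr : r.Prime) (hd : r ∣ Nat.card G) : r ∣ Nat.card M := by
  haveI := Fact.mk hr
  by_contra hrM
  obtain ⟨x, hxo⟩ := exists_prime_orderOf_dvd_card' r hd
  set φ : ↥M ≃* ↥M := M.normalizerMonoidHom ⟨x, by rw [normalizer_eq_top_iff.2 hMn]; trivial⟩
  have hfix : ∀ m : M, φ m = m → m = 1 := by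
    intro m hm
    by_contra hm1
    have hm' : x * (m : G) * x⁻¹ = m := congrArg Subtype.val hm
    obtain ⟨t, ht, htd⟩ := Nat.exists_prime_and_dvd (n := orderOf (m : G))
      (fun e => hm1 (Subtype.ext (orderOf_eq_one_iff.1 e)))
    haveI := Fact.mk ht
    have := Cfsg.Agent.S3992.eq_of_commute hG (orderOf_pow_orderOf_div (orderOf_pos (m : G)).ne' htd) hxo
      ((show Commute x (m : G) from mul_inv_eq_iff_eq_mul.1 hm').symm.pow_left _)
    subst this
    exact hrM (htd.trans (by rw [orderOf_coe]; exact orderOf_dvd_natCard m))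
  have hpow : φ ^ r = 1 := by
    rw [← map_pow, show (⟨x, _⟩ : normalizer (M : Set G)) ^ r = 1 from Subtype.ext (by
      rw [SubgroupClass.coe_pow]; exact hxo ▸ pow_orderOf_eq_one x), map_one]
  have hne : φ ≠ 1 := fun e => by
    refine hns ?_
    haveI : Subsingleton M := ⟨fun a b => (hfix a (by rw [e]; rfl)).trans (hfix b (by rw [e]; rfl)).symm⟩
    infer_instance
  have hnil := Cfsg.Agent.S0033.result φ hfix r hr (orderOf_eq_prime hpow hne)
  exact hns (by haveI := hnil; infer_instance)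

end Cfsg.Lib.CIT
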