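import Cfsg.Agent.Lib.CIT.Classify
import Cfsg.Agent.Lib.CIT.Consumers.Eppo
import Cfsg.Agent.Lib.Linear.Suzuki.LieForm
import Cfsg.Agent.S0252
import Cfsg.Agent.S0253
import Cfsg.Agent.S0254
import Cfsg.Agent.S0324
import Cfsg.Agent.S0333
import Cfsg.Agent.Lib.Concrete.MTwentyOne

/-!
The simple groups in which every element has prime-power order.
-/

set_option autoImplicit false
set_option linter.style.haveILetI false

namespace Cfsg.Lib.CIT

open Subgroup
open Cfsg.Lib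

universe u

/-- The list of simple CIT groups, as a hypothesis. -/
def CITListHolds : Prop :=
  ∀ (G : Type u) [Group G] [Finite G] [IsSimpleGroup G], ¬ IsMulCommutative G → IsCIT G → CITList G

/-- Simple CIT groups of Suzuki order are Suzuki groups, as a hypothesis. -/
def SuzukiIso : Prop :=
  ∀ (G : Type u) [Group G] [Finite G] [IsSimpleGroup G], ¬ IsMulCommutative G → IsCIT G →
    Cfsg.IsSuzuki G → Cfsg.Lie.IsoSuzuki G

/-- The conclusion for simple groups with all orders prime powers. -/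
def EppoList (G : Type u) [Group G] : Prop :=
  Nonempty (G ≃* alternatingGroup (Fin 6)) ∨
    (∃ (F : Type) (_ : Field F) (_ : Fintype F), Fintype.card F ∈ ({4, 7, 8, 17} : Finset ℕ) ∧
      Nonempty (G ≃* Matrix.ProjectiveSpecialLinearGroup (Fin 2) F)) ∨
    (∃ (F : Type) (_ : Field F) (_ : Fintype F), Fintype.card F = 4 ∧
      Nonempty (G ≃* Matrix.ProjectiveSpecialLinearGroup (Fin 3) F)) ∨
    (∃ (F : Type) (_ : Field F) (_ : Fintype F),
      (Fintype.card F = 8 ∧ Nonempty (G ≃* ↥(Cfsg.Lie.Sz F 4))) ∨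
        (Fintype.card F = 32 ∧ Nonempty (G ≃* ↥(Cfsg.Lie.Sz F 8))))

theorem eq_prime_pow_of_dvd {p x : ℕ} (hp : p.Prime) (hd : p ∣ x) (hx : IsPrimePow x) : ∃ a, x = p ^ a := by
  obtain ⟨w, n, hw, -, rfl⟩ := hx
  exact ⟨n, by rw [(Nat.prime_dvd_prime_iff_eq hp (Nat.prime_iff.mpr hw)).1 (hp.dvd_of_dvd_pow hd)]⟩

theorem two_pow_mod_three (n : ℕ) : 2 ^ n % 3 = 1 ∨ 2 ^ n % 3 = 2 := by
  induction n with
  | zero => simp
  | succ n ih => rw [pow_succ]; omega

theorem three_pow_mod_eight (a : ℕ) : 3 ^ a % 8 = 1 ∨ 3 ^ a % 8 = 3 := by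
  induction a with
  | zero => simp
  | succ n ih => rw [pow_succ]; omega

theorem two_pow_add_one_eq {n a : ℕ} (h : 2 ^ n + 1 = 3 ^ a) : n = 1 ∨ n = 3 := by
  rcases Nat.even_or_odd a with ⟨b, rfl⟩ | ⟨b, rfl⟩
  · right
    rw [← two_mul, pow_mul', pow_two] at h
    obtain ⟨y, hy⟩ : ∃ y, 3 ^ b = y + 1 := ⟨3 ^ b - 1, by have := Nat.one_le_pow b 3 (by norm_num); omega⟩
    rw [hy, show (y + 1) * (y + 1) = y * (y + 2) + 1 by ring] at h
    have h' : y * (y + 2) = 2 ^ n := by omega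
    obtain ⟨i, -, hi⟩ := (Nat.dvd_prime_pow Nat.prime_two).1 ⟨y + 2, h'.symm⟩
    obtain ⟨j, -, hj⟩ := (Nat.dvd_prime_pow Nat.prime_two).1 (Dvd.intro_left y h')
    have hy2 : y = 2 := by
      rcases i with _ | _ | i
      · rw [pow_zero] at hi
        exfalso
        rcases j with _ | _ | j
        · rw [pow_zero] at hj; omega
        · norm_num at hj; omega
        · rw [pow_succ, pow_succ] at hj; omega
      · simpa using hi
      · exfalso
        rw [pow_succ, pow_succ] at hi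
        have := Nat.two_pow_pos i
        rcases j with _ | _ | j
        · rw [pow_zero] at hj; omega
        · norm_num at hj; omega
        · rw [pow_succ, pow_succ] at hj; omega
    subst hy2
    exact Nat.pow_right_injective le_rfl (show 2 ^ n = 2 ^ 3 by rw [← h'])
  · left
    have h8 : 3 ^ (2 * b + 1) % 8 = 3 := by
      rw [pow_succ, pow_mul, Nat.mul_mod, Nat.pow_mod]
      norm_num
    rw [← h] at h8
    by_contra hn
    rcases n with _ | _ | _ | n
    · norm_num at h8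
    · exact hn rfl
    · norm_num at h8
    · rw [pow_succ, pow_succ, pow_succ] at h8; omega

theorem two_pow_sub_one_eq {n a : ℕ} (h : 2 ^ n = 3 ^ a + 1) : n ≤ 2 := by
  by_contra hn
  obtain ⟨j, rfl⟩ : ∃ j, n = j + 3 := ⟨n - 3, by omega⟩
  have := three_pow_mod_eight a
  rw [pow_succ, pow_succ, pow_succ] at h
  omega

theorem five_pow_dvd {k : ℕ} : ∀ n : ℕ, 2 ^ (n + 3) ∣ 5 ^ k - 1 → 2 ^ (n + 1) ∣ k := by
  induction k using Nat.strong_induction_on with
  | _ k ih =>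
    intro n hd
    rcases Nat.eq_zero_or_pos k with rfl | hk
    · exact dvd_zero _
    rcases Nat.even_or_odd k with ⟨j, hj⟩ | ⟨j, hj⟩
    · subst hj
      rcases n with _ | n
      · exact ⟨j, by omega⟩
      obtain ⟨y, hy⟩ : ∃ y, 5 ^ j = y + 1 := ⟨5 ^ j - 1, by have := Nat.one_le_pow j 5 (by norm_num); omega⟩
      have hy4 : y % 4 = 0 := by
        have : 5 ^ j % 4 = 1 := by rw [Nat.pow_mod]; norm_num
        omega
      obtain ⟨z, hz⟩ : ∃ z, y = 4 * z := ⟨y / 4, by omega⟩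
      have e : 5 ^ (j + j) - 1 = 2 * (y * (2 * z + 1)) := by
        rw [pow_add, hy, hz, show (4 * z + 1) * (4 * z + 1) = 2 * (4 * z * (2 * z + 1)) + 1 by ring,
          Nat.add_sub_cancel]
      rw [e, show n + 1 + 3 = n + 3 + 1 by omega, pow_succ'] at hd
      have h1 := Nat.dvd_of_mul_dvd_mul_left two_pos hd
      have h2 : 2 ^ (n + 3) ∣ y :=
        ((Nat.coprime_two_left.2 (odd_two_mul_add_one z)).pow_left (n + 3)).dvd_of_dvd_mul_right h1
      obtain ⟨c, hc⟩ := ih j (by omega) n (by rw [hy, Nat.add_sub_cancel]; exact h2)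
      exact ⟨c, by rw [hc, pow_succ (n := n + 1)]; ring⟩
    · exfalso
      have h8 : 5 ^ k % 8 = 5 := by
        rw [hj, pow_succ, pow_mul, Nat.mul_mod, Nat.pow_mod]
        norm_num
      obtain ⟨c, hc⟩ := (pow_dvd_pow 2 (show 3 ≤ n + 3 by omega)).trans hd
      norm_num at hc
      generalize 5 ^ k = w at hc h8
      omega

theorem suzuki_exponent {m k : ℕ} (hm : 1 ≤ m)
    (h : 5 ^ k = 2 ^ (2 * m + 1) + 2 ^ (m + 1) + 1 ∨ 5 ^ k = 2 ^ (2 * m + 1) - 2 ^ (m + 1) + 1) : m ≤ 2 := by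
  by_contra hm3
  obtain ⟨j, rfl⟩ : ∃ j, m = j + 2 := ⟨m - 2, by omega⟩
  have hle : 2 ^ (j + 2 + 1) ≤ 2 ^ (2 * (j + 2) + 1) := Nat.pow_le_pow_right two_pos (by omega)
  have hd : 2 ^ (j + 3) ∣ 5 ^ k - 1 := by
    have h1 : 2 ^ (j + 3) ∣ 2 ^ (2 * (j + 2) + 1) := pow_dvd_pow 2 (by omega)
    rcases h with h | h <;> rw [h, Nat.add_sub_cancel]
    · exact dvd_add h1 dvd_rfl
    · exact Nat.dvd_sub h1 dvd_rfl
  obtain ⟨c, hc⟩ := five_pow_dvd j hd
  have hlt : 5 ^ k < 2 ^ (2 * (j + 2) + 2) := by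
    have h2 : 2 ^ (2 * (j + 2) + 2) = 2 * 2 ^ (2 * (j + 2) + 1) := pow_succ' 2 _
    have h3 : 2 * 2 ^ (j + 2 + 1) ≤ 2 ^ (2 * (j + 2) + 1) := by
      rw [← pow_succ']; exact Nat.pow_le_pow_right two_pos (by omega)
    have h4 := Nat.two_pow_pos (j + 2 + 1)
    have h5 : 2 ≤ 2 ^ (j + 2 + 1) := Nat.le_self_pow (by omega) 2
    generalize 5 ^ k = w at h ⊢
    generalize 2 ^ (j + 2 + 1) = u at h h3 h4 h5 hle
    generalize 2 ^ (2 * (j + 2) + 1) = v at h h2 h3 hle
    rw [h2]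
    rcases h with h | h <;> omega
  have h4k : 2 * k < 2 * (j + 2) + 2 := (Nat.pow_lt_pow_iff_right (a := 2) (by norm_num)).1
    (lt_of_le_of_lt (by rw [pow_mul]; exact Nat.pow_le_pow_left (by norm_num) k) hlt)
  have hc0 : c ≠ 0 := by
    rintro rfl
    rw [hc, mul_zero, pow_zero] at h
    have h6 : 2 * 2 ^ (j + 2 + 1) ≤ 2 ^ (2 * (j + 2) + 1) := by
      rw [← pow_succ']; exact Nat.pow_le_pow_right two_pos (by omega)
    have h7 := Nat.two_pow_pos (j + 2 + 1)
    clear hlt h4k hd hle hc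
    generalize 2 ^ (j + 2 + 1) = u at h h6 h7
    generalize 2 ^ (2 * (j + 2) + 1) = v at h h6
    omega
  have hk : 2 ^ (j + 1) ≤ k := hc ▸ Nat.le_mul_of_pos_right _ (Nat.pos_of_ne_zero hc0)
  have hj : j ≤ 1 := by
    by_contra hj
    have h5 : ∀ i : ℕ, i + 6 ≤ 2 ^ (i + 3) := fun i => by
      induction i with
      | zero => norm_num
      | succ i ih => rw [show i + 1 + 3 = i + 3 + 1 by omega, pow_succ]; omega
    obtain ⟨i, rfl⟩ : ∃ i, j = i + 2 := ⟨j - 2, by omega⟩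
    have := h5 i
    rw [show i + 2 + 1 = i + 3 by omega] at hk
    omega
  obtain rfl : j = 1 := by omega
  norm_num at h hk h4k
  obtain rfl : k = 4 := by omega
  norm_num at h

variable {G : Type u} [Group G] [Finite G]

omit [Finite G] in
theorem isPrimePow_of_orderOf (hG : IsEppo G) {H : Type*} [Group H] (e : G ≃* H) {x : H} {k : ℕ}
    (hx : orderOf x = k) (hk : k ≠ 1) : IsPrimePow k := by
  rw [← hx, ← MulEquiv.orderOf_eq e.symm x]
  refine hG _ fun h => hk ?_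
  rw [← hx, ← MulEquiv.orderOf_eq e.symm x, h, orderOf_one]

theorem psl_orders (hG : IsEppo G) {F : Type} [Field F] [Fintype F] (h4 : 4 ≤ Fintype.card F)
    (e : G ≃* Matrix.ProjectiveSpecialLinearGroup (Fin 2) F) {k : ℕ} (hk : k ≠ 1)
    (h : k = (Fintype.card F - 1) / Nat.gcd 2 (Fintype.card F - 1) ∨
      k = (Fintype.card F + 1) / Nat.gcd 2 (Fintype.card F - 1)) : IsPrimePow k := by
  obtain ⟨p, hpp, hp, n, -, -⟩ := Cfsg.Lib.Dickson.exists_char (F := F)
  haveI := Fact.mk hpp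
  obtain ⟨x, hx⟩ : k ∈ Set.range (orderOf : Matrix.ProjectiveSpecialLinearGroup (Fin 2) F → ℕ) := by
    rw [Cfsg.Lib.Spec.psl_two_spectrum p h4]
    exact Or.inr (h.imp dvd_of_eq dvd_of_eq)
  exact isPrimePow_of_orderOf hG e hx hk

theorem eppo_psl [IsSimpleGroup G] (hna : ¬ IsMulCommutative G) (hG : IsEppo G) {F : Type} [Field F]
    [Fintype F] (hl : Fintype.card F = 9 ∨ (∃ n : ℕ, Fintype.card F = 2 ^ n) ∨
      ((Fintype.card F).Prime ∧ ∃ k : ℕ, Fintype.card F = 2 ^ k + 1 ∨ Fintype.card F + 1 = 2 ^ k))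
    (e : G ≃* Matrix.ProjectiveSpecialLinearGroup (Fin 2) F) : EppoList G := by
  have h4 := four_le_of_iso hna e
  rcases hl with h9 | ⟨n, hn⟩ | ⟨hp, k, hk⟩
  · obtain ⟨f⟩ := Cfsg.Agent.S0254.result h9
    exact Or.inl ⟨e.trans f⟩
  · refine Or.inr (Or.inl ⟨F, inferInstance, inferInstance, ?_, ⟨e⟩⟩)
    rcases n with _ | n
    · rw [hn] at h4; norm_num at h4
    have hpos := Nat.two_pow_pos n
    have hgcd : Nat.gcd 2 (Fintype.card F - 1) = 1 :=
      Nat.coprime_two_left.2 (Nat.odd_iff.2 (by rw [hn, pow_succ]; omega))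
    have hq : ∀ k : ℕ, k ≠ 1 → (k = 2 ^ (n + 1) - 1 ∨ k = 2 ^ (n + 1) + 1) → IsPrimePow k :=
      fun k hk h => psl_orders hG h4 e hk (by rwa [hgcd, Nat.div_one, Nat.div_one, hn])
    have hsmall : n + 1 = 2 ∨ n + 1 = 3 := by
      rcases two_pow_mod_three (n + 1) with h | h
      · obtain ⟨a, ha⟩ := eq_prime_pow_of_dvd Nat.prime_three (Nat.dvd_of_mod_eq_zero (by omega))
          (hq _ (by omega) (Or.inl rfl))
        have h1 := two_pow_sub_one_eq (n := n + 1) (a := a) (by omega)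
        rcases n with _ | n
        · norm_num at hn; omega
        · left; omega
      · obtain ⟨a, ha⟩ := eq_prime_pow_of_dvd Nat.prime_three (Nat.dvd_of_mod_eq_zero (by omega))
          (hq _ (by omega) (Or.inr rfl))
        rcases two_pow_add_one_eq ha with h1 | h1
        · rw [h1] at hn; norm_num at hn; omega
        · exact Or.inr h1
    rcases hsmall with h | h <;> rw [hn, h] <;> decide
  · have ho : Fintype.card F % 2 = 1 := by
      rcases hp.eq_two_or_odd with h | h <;> omega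
    have hgcd : Nat.gcd 2 (Fintype.card F - 1) = 2 := Nat.gcd_eq_left (by omega)
    have hq : ∀ k : ℕ, k ≠ 1 → (k = (Fintype.card F - 1) / 2 ∨ k = (Fintype.card F + 1) / 2) → IsPrimePow k :=
      fun k hk h => psl_orders hG h4 e hk (by rwa [hgcd])
    rcases k with _ | k
    · rw [pow_zero] at hk; omega
    rw [pow_succ] at hk
    have h3 : Fintype.card F % 3 ≠ 0 := fun h => by
      have := (Nat.prime_dvd_prime_iff_eq Nat.prime_three hp).1 (Nat.dvd_of_mod_eq_zero h)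
      omega
    rcases hk with hk | hk
    · have hm := two_pow_mod_three k
      obtain ⟨a, ha⟩ := eq_prime_pow_of_dvd Nat.prime_three (x := (Fintype.card F + 1) / 2)
        (Nat.dvd_of_mod_eq_zero (by omega)) (hq _ (by omega) (Or.inr rfl))
      rcases two_pow_add_one_eq (n := k) (a := a) (by omega) with h | h
      · rw [h] at hk
        norm_num at hk
        obtain ⟨f⟩ := Cfsg.Agent.S0253.result hk
        haveI : Fact (Nat.Prime 2) := ⟨Nat.prime_two⟩
        letI := Fintype.ofFinite (GaloisField 2 2)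
        have h4' : Fintype.card (GaloisField 2 2) = 4 := by
          rw [← Nat.card_eq_fintype_card, GaloisField.card 2 2 two_ne_zero]; norm_num
        obtain ⟨g⟩ := Cfsg.Agent.S0252.result h4'
        exact Or.inr (Or.inl ⟨GaloisField 2 2, inferInstance, inferInstance, by rw [h4']; decide,
          ⟨(e.trans f).trans g.symm⟩⟩)
      · rw [h] at hk
        norm_num at hk
        exact Or.inr (Or.inl ⟨F, inferInstance, inferInstance, by rw [hk]; decide, ⟨e⟩⟩)
    · have hm := two_pow_mod_three k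
      obtain ⟨a, ha⟩ := eq_prime_pow_of_dvd Nat.prime_three (x := (Fintype.card F - 1) / 2)
        (Nat.dvd_of_mod_eq_zero (by omega)) (hq _ (by omega) (Or.inl rfl))
      have h := two_pow_sub_one_eq (n := k) (a := a) (by omega)
      refine Or.inr (Or.inl ⟨F, inferInstance, inferInstance, ?_, ⟨e⟩⟩)
      have : Fintype.card F = 7 := by interval_cases k <;> norm_num at hk <;> omega
      rw [this]; decide

theorem eppo_suzuki (hG : IsEppo G) (h : Cfsg.Lie.IsoSuzuki G) : EppoList G := by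
  obtain ⟨F, i, j, m, hm, hF, ⟨e⟩⟩ := h
  have hord : ∀ k ∈ ({2 ^ (2 * m + 1) + 2 ^ (m + 1) + 1, 2 ^ (2 * m + 1) - 2 ^ (m + 1) + 1} : Set ℕ),
      k ≠ 1 → IsPrimePow k := by
    intro k hk hk1
    obtain ⟨U, hU, hUc, -, -⟩ := Cfsg.Agent.S0333.result hm hF k hk
    haveI := hU
    obtain ⟨x, hx⟩ := IsCyclic.exists_ofOrder_eq_natCard (α := U)
    rw [hUc, ← orderOf_coe] at hx
    obtain ⟨f, -⟩ := Cfsg.Lib.Linear.Suz.exists_lie_equiv (F := F) (m := m) ⟨hm, hF⟩
    exact isPrimePow_of_orderOf hG (e.trans f.symm) hx hk1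
  have hd5 : 5 ∣ 2 ^ (2 * m + 1) + 2 ^ (m + 1) + 1 ∨ 5 ∣ 2 ^ (2 * m + 1) - 2 ^ (m + 1) + 1 := by
    have h1 : (2 ^ (2 * m + 1) + 2 ^ (m + 1) + 1) * (2 ^ (2 * m + 1) - 2 ^ (m + 1) + 1)
        = 2 ^ (4 * m + 2) + 1 := by
      obtain ⟨y, hy⟩ : ∃ y, 2 ^ (2 * m + 1) = y + 2 ^ (m + 1) :=
        ⟨2 ^ (2 * m + 1) - 2 ^ (m + 1), by
          have := Nat.pow_le_pow_right two_pos (show m + 1 ≤ 2 * m + 1 by omega); omega⟩
      have h2 : 2 ^ (m + 1) * 2 ^ (m + 1) = 2 * 2 ^ (2 * m + 1) := by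
        rw [← pow_add, ← pow_succ']; congr 1; omega
      have h4 : 2 ^ (4 * m + 2) = 2 ^ (2 * m + 1) * 2 ^ (2 * m + 1) := by rw [← pow_add]; congr 1; omega
      rw [h4, hy, Nat.add_sub_cancel]
      rw [hy] at h2
      nlinarith [h2]
    have h5 : 5 ∣ 2 ^ (4 * m + 2) + 1 := Nat.dvd_of_mod_eq_zero (by
      rw [pow_add, pow_mul, Nat.add_mod, Nat.mul_mod, Nat.pow_mod]; norm_num)
    exact (Nat.Prime.dvd_mul (by norm_num)).1 (h1.symm ▸ h5)
  have hm2 : m ≤ 2 := by
    rcases hd5 with hd | hd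
    · obtain ⟨k, hk⟩ := eq_prime_pow_of_dvd (by norm_num : Nat.Prime 5) hd
        (hord _ (Or.inl rfl) fun e => by rw [e] at hd; norm_num at hd)
      exact suzuki_exponent hm (Or.inl hk.symm)
    · obtain ⟨k, hk⟩ := eq_prime_pow_of_dvd (by norm_num : Nat.Prime 5) hd
        (hord _ (Or.inr rfl) fun e => by rw [e] at hd; norm_num at hd)
      exact suzuki_exponent hm (Or.inr hk.symm)
  refine Or.inr (Or.inr (Or.inr ⟨F, i, j, ?_⟩))
  interval_cases m
  · exact Or.inl ⟨hF.trans (by norm_num), ⟨e⟩⟩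
  · exact Or.inr ⟨hF.trans (by norm_num), ⟨e⟩⟩

/-- The simple groups in which every element has prime-power order. -/
theorem eppoList (hcit : CITListHolds.{u}) (hsz : SuzukiIso.{u}) [IsSimpleGroup G]
    (hna : ¬ IsMulCommutative G) (hG : IsEppo G) : EppoList G := by
  rcases hcit G hna hG.isCIT with ⟨F, i, j, hl, ⟨e⟩⟩ | ⟨F, i, j, hF, he⟩ | hs
  · exact eppo_psl hna hG hl e
  · exact Or.inr (Or.inr (Or.inl ⟨F, i, j, hF, he⟩))
  · exact eppo_suzuki hG (hsz G hna hG.isCIT hs)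

end Cfsg.Lib.CIT
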