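import Cfsg.Agent.Lib.CIT.Consumers.EppoFour

/-!
Groups with element orders powers of two or primes other than five: `PSL₂(7)`.
-/

set_option autoImplicit false
set_option linter.style.haveILetI false

namespace Cfsg.Lib.CIT

open Subgroup
open Cfsg.Lib

universe u v

variable {G : Type u} [Group G] [Finite G]

theorem exists_two_lift (hG : IsEppo G) {R : Subgroup G} [R.Normal] {x : G ⧸ R} (hx : orderOf x = 2) :
    ∃ g : G, QuotientGroup.mk' R g = x ∧ g ^ 2 ∈ R ∧ ∃ k : ℕ, orderOf g = 2 ^ k := by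
  obtain ⟨g, rfl⟩ := QuotientGroup.mk'_surjective R x
  have hd : 2 ∣ orderOf g := hx ▸ orderOf_map_dvd _ g
  obtain ⟨k, hk⟩ := eq_prime_pow_of_dvd Nat.prime_two hd (hG g fun e => by
    rw [e, map_one, orderOf_one] at hx; norm_num at hx)
  refine ⟨g, rfl, ?_, k, hk⟩
  rw [← QuotientGroup.eq_one_iff]
  show QuotientGroup.mk' R (g ^ 2) = 1
  rw [map_pow, ← hx, pow_orderOf_eq_one]

/-- A four group in the quotient kills a normal `p`-subgroup, `p` odd. -/
theorem IsEppo.radical_eq_bot_of_four (hG : IsEppo G) {R : Subgroup G} [hRn : R.Normal] {p : ℕ}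
    [hp : Fact p.Prime] (hR : IsPGroup p R) (hp2 : p ≠ 2) {u t : G ⧸ R} (hu : orderOf u = 2)
    (ht : orderOf t = 2) (hut : orderOf (u * t) = 2) : R = ⊥ := by
  by_contra hR1
  have htwo : ∀ {x : G ⧸ R}, orderOf x = 2 → ∀ {g : G}, QuotientGroup.mk' R g = x → g ^ 2 = 1 := by
    intro x hx g hg
    have hd : 2 ∣ orderOf g := by rw [← hx, ← hg]; exact orderOf_map_dvd _ g
    obtain ⟨k, hk⟩ := eq_prime_pow_of_dvd Nat.prime_two hd (hG g fun e => by
      rw [e, map_one] at hg; rw [← hg, orderOf_one] at hx; norm_num at hx)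
    have hmem : g ^ 2 ∈ R := by
      rw [← QuotientGroup.eq_one_iff]
      show QuotientGroup.mk' R (g ^ 2) = 1
      rw [map_pow, hg, ← hx, pow_orderOf_eq_one]
    obtain ⟨j, hj⟩ := IsPGroup.iff_orderOf.1 hR ⟨g ^ 2, hmem⟩
    rw [Subgroup.orderOf_mk] at hj
    have h1 : orderOf (g ^ 2) ∣ 2 ^ k := hk ▸ orderOf_pow_dvd 2
    exact orderOf_eq_one_iff.1 (Nat.eq_one_of_dvd_coprimes
      (((Nat.coprime_primes hp.out Nat.prime_two).2 hp2).pow j k) hj.dvd h1)
  obtain ⟨a, ha⟩ := QuotientGroup.mk'_surjective R u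
  obtain ⟨b, hb⟩ := QuotientGroup.mk'_surjective R t
  have ha2 := htwo hu ha
  have hb2 := htwo ht hb
  have hab2 := htwo hut (show QuotientGroup.mk' R (a * b) = u * t by rw [map_mul, ha, hb])
  -- an abelian normal subgroup inside `R`
  set V := (center R).map R.subtype with hV
  haveI : V.Normal := ConjAct.normal_of_characteristic_of_normal
  haveI : Nontrivial R := (nontrivial_iff_ne_bot R).2 hR1
  haveI := hR.center_nontrivial
  obtain ⟨⟨z, hzc⟩, hz1⟩ := exists_ne (1 : center R)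
  have hzV : (z : G) ∈ V := ⟨z, hzc, rfl⟩
  have hcomm : ∀ x ∈ V, ∀ y ∈ V, x * y = y * x := by
    rintro _ ⟨x, hx, rfl⟩ _ ⟨y, -, rfl⟩
    rw [← map_mul, ← map_mul, (mem_center_iff.1 hx y).symm]
  -- an involution outside `R` inverts `V`
  have hinv : ∀ {x : G ⧸ R}, orderOf x = 2 → ∀ {g : G}, QuotientGroup.mk' R g = x → ∀ v ∈ V,
      g * v * g⁻¹ = v⁻¹ := by
    intro x hx g hg v hv
    have hg2 := htwo hx hg
    have hv' : g * v * g⁻¹ ∈ V := (inferInstance : V.Normal).conj_mem v hv g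
    set w := v * (g * v * g⁻¹)
    have hwR : w ∈ R := map_subtype_le _ (mul_mem hv hv')
    have hwc : g * w * g⁻¹ = w := by
      calc g * w * g⁻¹ = (g * v * g⁻¹) * (g ^ 2 * v * (g ^ 2)⁻¹) := by simp only [w]; group
        _ = (g * v * g⁻¹) * v := by rw [hg2]; group
        _ = w := hcomm _ hv' _ hv
    have hw1 : w = 1 := by
      by_contra hw
      obtain ⟨j, hj⟩ := IsPGroup.iff_orderOf.1 hR ⟨w, hwR⟩
      rw [Subgroup.orderOf_mk] at hj
      have hj0 : j ≠ 0 := by rintro rfl; exact hw (orderOf_eq_one_iff.1 (by simpa using hj))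
      haveI : Fact (Nat.Prime 2) := ⟨Nat.prime_two⟩
      refine hp2 (Cfsg.Agent.S3992.eq_of_commute hG
        (orderOf_pow_orderOf_div (orderOf_pos w).ne' (hj ▸ dvd_pow_self p hj0))
        (orderOf_eq_prime hg2 fun e => ?_) ((show Commute g w from mul_inv_eq_iff_eq_mul.1 hwc).symm.pow_left _))
      rw [e, map_one] at hg
      rw [← hg, orderOf_one] at hx; norm_num at hx
    exact eq_inv_of_mul_eq_one_right hw1
  have e1 := hinv hu ha z hzV
  have e2 := hinv ht hb z hzV
  have e3 := hinv hut (show QuotientGroup.mk' R (a * b) = u * t by rw [map_mul, ha, hb]) z hzV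
  rw [show a * b * (z : G) * (a * b)⁻¹ = a * (b * z * b⁻¹) * a⁻¹ by group, e2,
    show a * (z : G)⁻¹ * a⁻¹ = (a * z * a⁻¹)⁻¹ by group, e1, inv_inv] at e3
  obtain ⟨j, hj⟩ := IsPGroup.iff_orderOf.1 hR z
  have h2 : orderOf z ∣ 2 := orderOf_dvd_of_pow_eq_one (Subtype.ext (by
    rw [pow_two, Subgroup.coe_mul]; nth_rw 2 [e3]; exact mul_inv_cancel _))
  have h1 := Nat.eq_one_of_dvd_coprimes (((Nat.coprime_primes hp.out Nat.prime_two).2 hp2).pow_left j)
    hj.dvd h2
  exact hz1 (Subtype.ext (orderOf_eq_one_iff.1 h1))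

theorem exists_four_psl_seven {F : Type} [Field F] [Fintype F] (hF : Fintype.card F = 7) :
    ∃ u t : Matrix.ProjectiveSpecialLinearGroup (Fin 2) F, orderOf u = 2 ∧ orderOf t = 2 ∧ orderOf (u * t) = 2 := by
  haveI : Fact (Nat.Prime 2) := ⟨Nat.prime_two⟩
  obtain ⟨a, b, h⟩ := ClassSizePSL.exists_oddData (q := Fintype.card F) (by omega) (by omega)
  obtain ⟨y, t, hy, -, ht, hty, htm⟩ := ClassSizePSL.exists_dihedral h
  have ha : a = 8 := by
    have := h.a8
    rcases h.sum with ⟨h1, -⟩ | ⟨h1, -⟩ <;> omega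
  subst ha
  have ht1 : t ≠ 1 := fun e => htm (e ▸ one_mem _)
  have hy2 : orderOf (y ^ 2) = 2 := by rw [orderOf_pow, hy]; norm_num
  refine ⟨y ^ 2, t, hy2, orderOf_eq_prime (by rw [pow_two]; exact ht) ht1,
    orderOf_eq_prime ?_ fun e => htm ?_⟩
  · have h1 : t * y ^ 2 * t⁻¹ = (y ^ 2)⁻¹ := by rw [← conj_pow, hty, inv_pow]
    have hy4 : (y ^ 2) ^ 2 = 1 := orderOf_dvd_iff_pow_eq_one.1 hy2.dvd
    have h2 : (y ^ 2)⁻¹ = y ^ 2 := by rw [inv_eq_iff_mul_eq_one, ← pow_two, hy4]
    rw [h2, mul_inv_eq_iff_eq_mul] at h1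
    rw [(show Commute (y ^ 2) t from h1.symm).mul_pow, hy4, one_mul, pow_two]
    exact ht
  · rw [eq_inv_of_mul_eq_one_right e]
    exact inv_mem (pow_mem (mem_zpowers y) 2)

theorem psl_seven_equiv {F : Type v} [Field F] [Fintype F] {E : Type} [Field E] [Fintype E]
    (h : Fintype.card E = Fintype.card F) :
    Nonempty (Matrix.ProjectiveSpecialLinearGroup (Fin 2) E ≃* Matrix.ProjectiveSpecialLinearGroup (Fin 2) F) := by
  obtain ⟨f⟩ : Nonempty (E ≃+* F) := ⟨FiniteField.ringEquivOfCardEq h⟩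
  exact ⟨Cfsg.Lib.Dickson.pslEquiv f⟩

theorem eppoSeven (hcit : CITListHolds.{u}) (hsz : SuzukiIso.{u}) {F : Type v} [Field F] [Fintype F]
    (hF : Fintype.card F = 7) (h3 : 3 ≤ (Nat.card G).primeFactors.card)
    (hord : ∀ g : G, g ≠ 1 → (∃ k : ℕ, orderOf g = 2 ^ k) ∨ ((orderOf g).Prime ∧ orderOf g ≠ 5)) :
    Nonempty (G ≃* Matrix.ProjectiveSpecialLinearGroup (Fin 2) F) := by
  classical
  have hG : IsEppo G := fun g hg => by
    rcases hord g hg with ⟨k, hk⟩ | ⟨hk, -⟩
    · rw [hk]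
      exact ⟨2, k, Nat.prime_two.prime, Nat.pos_of_ne_zero (by
        rintro rfl; exact hg (orderOf_eq_one_iff.1 (by simpa using hk))), rfl⟩
    · exact hk.isPrimePow
  haveI : Fact (Nat.Prime 2) := ⟨Nat.prime_two⟩
  haveI : Fact (Nat.Prime 3) := ⟨Nat.prime_three⟩
  haveI : Fact (Nat.Prime 5) := ⟨by norm_num⟩
  haveI : Fact (Nat.Prime 7) := ⟨by norm_num⟩
  have hns : ¬ Group.IsSolvable G := fun hs => by
    haveI := hs
    have h2 := Cfsg.Agent.S1475.result (G := G) fun g => (em (g = 1)).symm.imp_left (hG g)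
    omega
  have h5 : ¬ 5 ∣ Nat.card G := fun hd => by
    obtain ⟨g, hg⟩ := exists_prime_orderOf_dvd_card' 5 hd
    rcases hord g (fun e => by rw [e, orderOf_one] at hg; norm_num at hg) with ⟨k, hk⟩ | ⟨-, hk⟩
    · have := (Nat.prime_dvd_prime_iff_eq (by norm_num : Nat.Prime 5) Nat.prime_two).1
        ((by norm_num : Nat.Prime 5).dvd_of_dvd_pow (hk ▸ hg.symm.dvd))
      omega
    · exact hk hg
  obtain ⟨R, hRn, p, M, hsh⟩ := hG.exists_shape hns
  haveI := hsh.normal
  haveI := hsh.simple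
  haveI := Fact.mk hsh.prime
  have hH := hG.quotient R
  have hM5 : ¬ 5 ∣ Nat.card M := fun h => h5 (h.trans ((Subgroup.card_subgroup_dvd_card M).trans
    (R.card_quotient_dvd_card)))
  have hnine : ∀ x : G ⧸ R, orderOf x ≠ 9 := fun x hx => by
    obtain ⟨g, rfl⟩ := QuotientGroup.mk'_surjective R x
    have hd : 9 ∣ orderOf g := hx ▸ orderOf_map_dvd _ g
    rcases hord g (fun e => by rw [e, map_one, orderOf_one] at hx; norm_num at hx) with ⟨k, hk⟩ | ⟨hk, -⟩
    · have := (Nat.prime_dvd_prime_iff_eq Nat.prime_three Nat.prime_two).1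
        (Nat.prime_three.dvd_of_dvd_pow (hk ▸ (show 3 ∣ 9 by norm_num).trans hd))
      omega
    · rcases (Nat.dvd_prime hk).1 ((show 3 ∣ 9 by norm_num).trans hd) with h | h
      · norm_num at h
      · rw [← h] at hd; norm_num at hd
  rcases eppoList hcit hsz hsh.nonab (hH.subgroup M) with he | ⟨E, i, j, hE, ⟨e⟩⟩ | ⟨E, i, j, hE, ⟨e⟩⟩ | ⟨E, i, j, hE⟩
  · obtain ⟨e⟩ := he
    exact absurd (by
      rw [Nat.card_congr e.toEquiv, nat_card_alternatingGroup, Nat.card_eq_fintype_card, Fintype.card_fin]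
      decide) hM5
  · have hc := Cfsg.Lib.Linear.Two.card_PSL_two (F := E)
    rw [← Nat.card_congr e.toEquiv] at hc
    have noNine : 4 ≤ Fintype.card E → (Fintype.card E + 1) / Nat.gcd 2 (Fintype.card E - 1) = 9 → False := by
      intro h4 h9
      obtain ⟨q, hq, hq', -⟩ := Cfsg.Lib.Dickson.exists_char (F := E)
      haveI := Fact.mk hq
      obtain ⟨x, hx⟩ : 9 ∈ Set.range (orderOf : Matrix.ProjectiveSpecialLinearGroup (Fin 2) E → ℕ) := by
        rw [Cfsg.Lib.Spec.psl_two_spectrum q h4]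
        exact Or.inr (Or.inr (dvd_of_eq h9.symm))
      exact hnine ((e.symm x : M) : G ⧸ R) (by rw [orderOf_coe, MulEquiv.orderOf_eq, hx])
    simp only [Finset.mem_insert, Finset.mem_singleton] at hE
    rcases hE with hE | hE | hE | hE
    · rw [hE] at hc; norm_num at hc
      exact absurd (by rw [hc]; norm_num) hM5
    · rw [hE] at hc
      have hc' : Nat.card M = 168 := by norm_num at hc; omega
      have hMt : M = ⊤ := hH.index_eq_one hc' (r := 7) (s := 3) (by norm_num) (by norm_num) (by norm_num)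
        (by norm_num) (by norm_num) (by norm_num) fun a hlt had _ hmod b hb hbd hab hpp => by
          have ha : a = 3 := (by decide : ∀ a < 7, a ∣ 7 - 1 → 168 / (7 * a) % 7 = 1 → a = 3) a hlt had hmod
          subst ha
          rcases (by decide : ∀ b < 7, b ∣ 7 - 1 → 3 ∣ b → b = 3 ∨ (2 ∣ b ∧ 3 ∣ b)) b hb hbd hab with h | ⟨h, h'⟩
          · exact h
          · exact absurd hpp (not_isPrimePow_of_two_three h Nat.prime_three (by norm_num) h')
      have hR : R = ⊥ := by
        by_cases hp7 : p = 7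
        · obtain ⟨P, x, hP, hx, hxn⟩ := hH.exists_pair hc' (r := 3) (s := 2) (by norm_num) (by norm_num) (by decide)
          exact hG.radical_eq_bot hsh.isP (by omega) (by omega) (by norm_num) hP hx hxn
        by_cases hp3 : p = 3
        · obtain ⟨u, t, hu, ht, hut⟩ := exists_four_psl_seven hE
          refine hG.radical_eq_bot_of_four hsh.isP (by omega) (u := ((e.symm u : M) : G ⧸ R))
            (t := ((e.symm t : M) : G ⧸ R)) ?_ ?_ ?_
          · rw [orderOf_coe, MulEquiv.orderOf_eq, hu]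
          · rw [orderOf_coe, MulEquiv.orderOf_eq, ht]
          · rw [← Subgroup.coe_mul, ← map_mul, orderOf_coe, MulEquiv.orderOf_eq, hut]
        · obtain ⟨P, x, hP, hx, hxn⟩ := hH.exists_pair hc' (r := 7) (s := 3) (by norm_num) (by norm_num) (by decide)
          exact hG.radical_eq_bot hsh.isP hp7 hp3 (by norm_num) hP hx hxn
      obtain ⟨f⟩ := psl_seven_equiv (E := E) (F := F) (by rw [hE, hF])
      exact ⟨(((QuotientGroup.quotientBot.symm.trans (QuotientGroup.quotientMulEquivOfEq hR.symm)).trans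
        ((Subgroup.topEquiv.symm).trans (MulEquiv.subgroupCongr hMt.symm))).trans e).trans f⟩
    · exact (noNine (by omega) (by rw [hE]; rfl)).elim
    · exact (noNine (by omega) (by rw [hE]; rfl)).elim
  · exact absurd (by rw [Nat.card_congr e.toEquiv, card_psl_three_four hE]; norm_num) hM5
  · rcases hE with ⟨hE, ⟨e⟩⟩ | ⟨hE, ⟨e⟩⟩
    · exact absurd (by
        rw [(Nat.card_congr e.toEquiv).trans (card_lie_sz (F := E) (m := 1) le_rfl (hE.trans (by norm_num)))]
        norm_num) hM5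
    · exact absurd (by
        rw [(Nat.card_congr e.toEquiv).trans (card_lie_sz (F := E) (m := 2) one_le_two (hE.trans (by norm_num)))]
        norm_num) hM5

end Cfsg.Lib.CIT
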