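import Cfsg.Agent.Lib.CIT.NonSolvIndex
import Cfsg.Agent.Lib.Solv.ThreePrimes
import Cfsg.Agent.Lib.Spec.PSLTwoSpectrum
import Cfsg.Agent.Lib.Dickson.PSLTwo
import Cfsg.Agent.S2904

/-!
Groups with the prime graph of `PSL(2, 2^m)`: the prime `2` is isolated, so the
classification of the CIT groups applies, and a primitive prime divisor fixes the field.
-/

set_option autoImplicit false
set_option linter.style.haveILetI false

namespace Cfsg.Lib.CIT.Isolated

open Subgroup
open Cfsg.Lib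

universe u v

/-- A primitive prime divisor of `2 ^ n - 1` divides `2 ^ a - 1` only if `n ∣ a`. -/
theorem dvd_of_primitive {r n a : ℕ} (_hr : r.Prime) (hn : 0 < n) (h : r ∣ 2 ^ n - 1)
    (hmin : ∀ k, 0 < k → k < n → ¬ r ∣ 2 ^ k - 1) (ha : r ∣ 2 ^ a - 1) : n ∣ a := by
  have hg : r ∣ 2 ^ n.gcd a - 1 := by
    rw [← Nat.pow_sub_one_gcd_pow_sub_one]
    exact Nat.dvd_gcd h ha
  have hle : n.gcd a ≤ n := Nat.le_of_dvd hn (Nat.gcd_dvd_left n a)
  by_contra hna
  refine hmin _ (Nat.gcd_pos_of_pos_left a hn) (lt_of_le_of_ne hle fun e => hna ?_) hg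
  exact e ▸ Nat.gcd_dvd_right n a

theorem exists_primitive {n : ℕ} (hn : 3 ≤ n) (h6 : n ≠ 6) :
    ∃ r : ℕ, r.Prime ∧ r ∣ 2 ^ n - 1 ∧ ∀ k, 0 < k → k < n → ¬ r ∣ 2 ^ k - 1 :=
  Cfsg.Agent.S2904.result 2 n one_lt_two (by omega) (fun h => h6 h.2) (fun h => by omega)

/-- A primitive prime divisor beyond the exponent four exceeds seven. -/
theorem seven_lt_of_primitive {r n : ℕ} (hr : r.Prime) (hn : 5 ≤ n) (h : r ∣ 2 ^ n - 1)
    (hmin : ∀ k, 0 < k → k < n → ¬ r ∣ 2 ^ k - 1) : 7 < r := by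
  by_contra hle
  have hr2 : r ≠ 2 := by
    rintro rfl
    have h0 : 2 ∣ 2 ^ n := dvd_pow_self 2 (by omega)
    have := Nat.two_pow_pos n
    omega
  have h1 := hmin 2 (by omega) (by omega)
  have h2 := hmin 3 (by omega) (by omega)
  have h3 := hmin 4 (by omega) (by omega)
  have := hr.two_le
  interval_cases r <;> norm_num at *

theorem not_three_dvd_suzuki (m : ℕ) :
    ¬ 3 ∣ (2 ^ (2 * m + 1)) ^ 2 * ((2 ^ (2 * m + 1)) ^ 2 + 1) * (2 ^ (2 * m + 1) - 1) := by
  have hq : (2 ^ (2 * m + 1)) % 3 = 2 := by rw [pow_succ, pow_mul, Nat.mul_mod, Nat.pow_mod]; norm_num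
  generalize 2 ^ (2 * m + 1) = q at hq
  intro h
  rcases Nat.prime_three.dvd_mul.1 h with h4 | h4
  · rcases Nat.prime_three.dvd_mul.1 h4 with h5 | h5
    · have := Nat.prime_three.dvd_of_dvd_pow h5; omega
    · rw [Nat.dvd_iff_mod_eq_zero, Nat.add_mod, Nat.pow_mod, hq] at h5; norm_num at h5
  · omega

/-- The hypotheses shared by the two theorems, and what the classification gives. -/
theorem reduce_of_graph {S : Type v} [Group S] {G : Type u} [Group G] [Finite G]
    (hdiv : ∀ r : ℕ, r.Prime → (r ∣ Nat.card S ↔ r ∣ Nat.card G))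
    (hadj : ∀ r s : ℕ, r.Prime → s.Prime → r ≠ s →
      ((∃ x : S, orderOf x = r * s) ↔ (∃ y : G, orderOf y = r * s)))
    (hiso : ∀ p : ℕ, p.Prime → p ≠ 2 → ∀ x : S, orderOf x ≠ 2 * p)
    (h2 : 2 ∣ Nat.card S) {r s : ℕ} (hr : r.Prime) (hs : s.Prime) (hr2 : r ≠ 2) (hs2 : s ≠ 2) (hrs : r ≠ s)
    (hrS : r ∣ Nat.card S) (hsS : s ∣ Nat.card S) (hnadj : ∀ x : S, orderOf x ≠ r * s) :
    IsCIT (G ⧸ Cfsg.pCore 2 G) ∧ ∃ (T : Subgroup (G ⧸ Cfsg.pCore 2 G)) (_ : T.Normal) (k : ℕ),
      IsSimpleGroup T ∧ ¬ IsMulCommutative T ∧ CITList T ∧ T.index = 2 ^ k ∧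
        ∀ p : ℕ, p.Prime → (p ∣ Nat.card S ↔ p ∣ Nat.card T) := by
  haveI : Fact (Nat.Prime 2) := ⟨Nat.prime_two⟩
  have hiso' : ∀ p : ℕ, p.Prime → p ≠ 2 → ∀ y : G, orderOf y ≠ 2 * p := fun p hp hp2 y hy => by
    obtain ⟨x, hx⟩ := (hadj 2 p Nat.prime_two hp (Ne.symm hp2)).2 ⟨y, hy⟩
    exact hiso p hp hp2 x hx
  have hG : IsCIT G := by
    intro t ht
    refine IsPGroup.of_card (n := (Nat.card ↥(centralizer ({t} : Set G))).primeFactorsList.length) ?_
    by_contra hne
    obtain ⟨p, hp, hpd, hp2⟩ : ∃ p : ℕ, p.Prime ∧ p ∣ Nat.card ↥(centralizer ({t} : Set G)) ∧ p ≠ 2 := by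
      by_contra h
      push Not at h
      exact hne (Nat.eq_prime_pow_of_unique_prime_dvd Nat.card_pos.ne' fun {d} hd hdd => h d hd hdd)
    haveI := Fact.mk hp
    obtain ⟨⟨y, hy⟩, hyo⟩ := exists_prime_orderOf_dvd_card' (G := ↥(centralizer ({t} : Set G))) p hpd
    rw [Subgroup.orderOf_mk] at hyo
    have hc : Commute t y := (mem_centralizer_singleton_iff.mp hy).symm
    refine hiso' p hp hp2 (t * y) ?_
    rw [hc.orderOf_mul_eq_mul_orderOf_of_coprime (by rw [ht, hyo]; exact (Nat.coprime_primes Nat.prime_two hp).2 (Ne.symm hp2)), ht, hyo]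
  have hns : ¬ Group.IsSolvable G := fun h => by
    haveI := h
    obtain ⟨x, hx | hx | hx⟩ := Solv.three_primes Nat.prime_two hr hs (Ne.symm hr2) (Ne.symm hs2) hrs
      ((hdiv 2 Nat.prime_two).1 h2) ((hdiv r hr).1 hrS) ((hdiv s hs).1 hsS)
    · exact hiso' r hr hr2 x hx
    · exact hiso' s hs hs2 x hx
    · obtain ⟨y, hy⟩ := (hadj r s hr hs hrs).2 ⟨x, hx⟩
      exact hnadj y hy
  obtain ⟨hX, T, hTn, k, hTs, hTna, hl, hk⟩ := NonSolv.reduce hG hns
  haveI := hTs
  refine ⟨hX, T, hTn, k, hTs, hTna, hl, hk, fun p hp => (hdiv p hp).trans ⟨fun h => ?_, fun h => ?_⟩⟩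
  · rcases eq_or_ne p 2 with rfl | hp2
    · exact two_dvd_card hTna
    rw [(Cfsg.pCore 2 G).card_eq_card_quotient_mul_card_subgroup, ← T.card_mul_index, hk] at h
    obtain ⟨j, hj⟩ := IsPGroup.iff_card.mp (Core.pCore_isPGroup 2 G)
    rw [hj] at h
    have hnot : ∀ i, ¬ p ∣ 2 ^ i := fun i hi =>
      hp2 ((Nat.prime_dvd_prime_iff_eq hp Nat.prime_two).1 (hp.dvd_of_dvd_pow hi))
    exact (hp.dvd_mul.1 ((hp.dvd_mul.1 h).resolve_right (hnot j))).resolve_right (hnot k)
  · exact h.trans ((T.card_subgroup_dvd_card).trans (Subgroup.card_quotient_dvd_card _))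

theorem equiv_of_eq_top {X : Type u} [Group X] {T : Subgroup X} (h : T = ⊤) {S : Type v} [Group S]
    (e : T ≃* S) : Nonempty (X ≃* S) :=
  ⟨((Subgroup.topEquiv.symm).trans (MulEquiv.subgroupCongr h.symm)).trans e⟩

/-! ### The linear case -/

section PSL

variable {F : Type v} [Field F] [Fintype F] {m : ℕ}

theorem psl_even_orders (hm : 2 ≤ m) (hF : Fintype.card F = 2 ^ m) :
    Set.range (orderOf : Matrix.ProjectiveSpecialLinearGroup (Fin 2) F → ℕ) =
      {k : ℕ | k ∣ 2 ∨ k ∣ 2 ^ m - 1 ∨ k ∣ 2 ^ m + 1} := by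
  have h4 : 4 ≤ Fintype.card F := by
    rw [hF]; exact le_trans (by norm_num) (Nat.pow_le_pow_right two_pos hm)
  obtain ⟨p, hpp, hp, n, hn0, hn⟩ := Cfsg.Lib.Dickson.exists_char (F := F)
  haveI := Fact.mk hpp
  have hp2 : p = 2 := by
    refine (Nat.prime_dvd_prime_iff_eq hpp Nat.prime_two).1 (hpp.dvd_of_dvd_pow (?_ : p ∣ 2 ^ m))
    rw [← hF, hn]
    exact dvd_pow_self p hn0.ne'
  subst hp2
  have hodd : Odd (2 ^ m - 1) := Nat.Even.sub_odd Nat.one_le_two_pow
    (Nat.even_pow.2 ⟨even_two, by omega⟩) odd_one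
  have hg : Nat.gcd 2 (Fintype.card F - 1) = 1 := by
    rw [hF]; exact Nat.coprime_two_left.2 hodd
  rw [Cfsg.Lib.Spec.psl_two_spectrum 2 h4, hg, Nat.div_one, Nat.div_one, hF]

theorem card_psl_two_pow (hm : 1 ≤ m) (hF : Fintype.card F = 2 ^ m) :
    Nat.card (Matrix.ProjectiveSpecialLinearGroup (Fin 2) F) = 2 ^ m * (2 ^ (2 * m) - 1) := by
  rw [ClassSizePSL.card_psl_even (hF ▸ dvd_pow_self 2 (by omega)), hF]
  congr 1
  rw [mul_comm, ← Nat.sq_sub_sq, one_pow, ← pow_mul, mul_comm m]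

theorem three_dvd_card_psl_two_pow (hm : 1 ≤ m) (hF : Fintype.card F = 2 ^ m) :
    3 ∣ Nat.card (Matrix.ProjectiveSpecialLinearGroup (Fin 2) F) := by
  rw [card_psl_two_pow hm hF, pow_mul]
  have h := Nat.sub_dvd_pow_sub_pow (2 ^ 2) 1 m
  rw [one_pow] at h
  exact Dvd.dvd.mul_left h _

/-- A normal subgroup `PSL(2, 2^m)` of 2-power index in a CIT group is everything. -/
theorem eq_top_of_psl {X : Type u} [Group X] [Finite X] (hG : IsCIT X) (T : Subgroup X) [T.Normal]
    [IsSimpleGroup T] (hna : ¬ IsMulCommutative T) {k : ℕ} (hk : T.index = 2 ^ k) (hm : 2 ≤ m)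
    (hF : Fintype.card F = 2 ^ m) (e : T ≃* Matrix.ProjectiveSpecialLinearGroup (Fin 2) F) : T = ⊤ := by
  classical
  haveI : Fact (Nat.Prime 3) := ⟨Nat.prime_three⟩
  have hc : Nat.card T = 2 ^ m * ((2 ^ m - 1) * (2 ^ m + 1)) := by
    rw [Nat.card_congr e.toEquiv, ClassSizePSL.card_psl_even (hF ▸ dvd_pow_self 2 (by omega)), hF]
  have h3T : 3 ∣ Nat.card T := by
    rw [Nat.card_congr e.toEquiv]; exact three_dvd_card_psl_two_pow (by omega) hF
  have hmod : 2 ^ m % 3 = 1 ∨ 2 ^ m % 3 = 2 := two_pow_mod_three m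
  have hp1 := Nat.one_le_two_pow (n := m)
  obtain ⟨K, hK, hK3, hKc⟩ : ∃ K, (K = 2 ^ m - 1 ∨ K = 2 ^ m + 1) ∧ 3 ∣ K ∧
      ∃ L, Nat.card T = L * K ∧ ¬ 3 ∣ L := by
    rcases hmod with h | h
    · refine ⟨_, Or.inl rfl, Nat.dvd_of_mod_eq_zero (by omega), 2 ^ m * (2 ^ m + 1), by rw [hc]; ring, ?_⟩
      rw [Nat.prime_three.dvd_mul]; omega
    · refine ⟨_, Or.inr rfl, Nat.dvd_of_mod_eq_zero (by omega), 2 ^ m * (2 ^ m - 1), by rw [hc]; ring, ?_⟩
      rw [Nat.prime_three.dvd_mul]; omega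
  obtain ⟨L, hL, hL3⟩ := hKc
  obtain ⟨x, hx⟩ : K ∈ Set.range (orderOf : Matrix.ProjectiveSpecialLinearGroup (Fin 2) F → ℕ) := by
    rw [psl_even_orders hm hF]
    exact Or.inr (hK.imp dvd_of_eq dvd_of_eq)
  have hK0 : K ≠ 0 := by
    have : 2 ^ 2 ≤ 2 ^ m := Nat.pow_le_pow_right two_pos hm
    omega
  have hfac : (Nat.card T).factorization 3 = K.factorization 3 := by
    have hL0 : L ≠ 0 := fun h => hL3 (h ▸ dvd_zero 3)
    rw [hL, Nat.factorization_mul hL0 hK0, Finsupp.add_apply, Nat.factorization_eq_zero_of_not_dvd hL3, zero_add]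
  set y : T := e.symm x ^ (K / 3 ^ K.factorization 3) with hy
  have hyo : orderOf y = 3 ^ K.factorization 3 := by
    have hxo : orderOf (e.symm x) = K := (e.symm.orderOf_eq x).trans hx
    rw [hy, ← hxo]
    exact orderOf_pow_orderOf_div (by rw [hxo]; exact hK0) (Nat.ordProj_dvd _ _)
  obtain ⟨P, hP⟩ := IsPGroup.exists_le_sylow (p := 3) (P := zpowers y)
    (IsPGroup.of_card (n := K.factorization 3) (by rw [Nat.card_zpowers, hyo]))
  have hPe : zpowers y = (P : Subgroup T) := Subgroup.eq_of_le_of_card_ge hP (by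
    rw [P.card_eq_multiplicity, Nat.card_zpowers, hyo, hfac])
  haveI hPc : IsCyclic ↥(P : Subgroup T) := by rw [← hPe]; infer_instance
  refine NonSolv.eq_top_of_torus hG T hk (r := 3) (by norm_num) (v := 1) (by norm_num) P hPc h3T ?_
  rw [pow_one]
  by_contra hodd
  -- an odd normaliser centralises the Sylow subgroup, and there is a normal complement
  have hle : normalizer ((P : Subgroup T) : Set T) ≤ centralizer ((P : Subgroup T) : Set T) := by
    have h1 := Subgroup.card_dvd_of_injective (QuotientGroup.kerLift (P : Subgroup T).normalizerMonoidHom)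
      (QuotientGroup.kerLift_injective _)
    rw [IsCyclic.card_mulAut, normalizerMonoidHom_ker, ← Subgroup.index_eq_card] at h1
    refine relIndex_eq_one.1 ?_
    set d := (centralizer ((P : Subgroup T) : Set T)).relIndex (normalizer ((P : Subgroup T) : Set T)) with hd
    have h1' : d ∣ Nat.totient (Nat.card (P : Subgroup T)) := h1
    rw [P.card_eq_multiplicity] at h1'
    have hd2 : ¬ 2 ∣ d := fun h => hodd (h.trans (relIndex_dvd_card _ _))
    have hd3 : ¬ 3 ∣ d := by
      intro h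
      haveI : ((P : Subgroup T).subgroupOf (normalizer ((P : Subgroup T) : Set T))).Normal :=
        Subgroup.normal_in_normalizer
      have hPC : (P : Subgroup T) ≤ centralizer ((P : Subgroup T) : Set T) := le_centralizer _
      have h4 := Sylow.not_dvd_index P
      refine h4 (h.trans ((dvd_trans ?_ (relIndex_dvd_index_of_le (le_normalizer (H := (P : Subgroup T)))))))
      exact Dvd.intro_left _ (relIndex_mul_relIndex _ _ _ hPC (centralizer_le_normalizer _))
    obtain ⟨j, hj⟩ : ∃ j, (Nat.card T).factorization 3 = j + 1 :=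
      ⟨_, (Nat.succ_pred_eq_of_pos (Nat.prime_three.factorization_pos_of_dvd Nat.card_pos.ne' h3T)).symm⟩
    rw [hj, Nat.totient_prime_pow_succ Nat.prime_three] at h1'
    by_contra hd1
    obtain ⟨p, hp, hpd⟩ := Nat.exists_prime_and_dvd hd1
    rcases hp.dvd_mul.1 (hpd.trans h1') with h | h
    · exact hd3 ((Nat.prime_dvd_prime_iff_eq hp Nat.prime_three).1 (hp.dvd_of_dvd_pow h) ▸ hpd)
    · exact hd2 ((Nat.prime_dvd_prime_iff_eq hp Nat.prime_two).1 h ▸ hpd)
  have hcompl := MonoidHom.ker_transferSylow_isComplement' P hle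
  have hn : (MonoidHom.transferSylow P hle).ker.Normal := MonoidHom.normal_ker _
  rcases hn.eq_bot_or_eq_top with h | h
  · rw [h] at hcompl
    have htop : (P : Subgroup T) = ⊤ := Subgroup.isComplement'_bot_left.mp hcompl
    haveI := ((htop ▸ P.2 : IsPGroup 3 (⊤ : Subgroup T)).of_equiv topEquiv).isNilpotent
    exact hna ⟨⟨IsSimpleGroup.comm_iff_isSolvable.2 inferInstance⟩⟩
  · rw [h] at hcompl
    exact P.ne_bot_of_dvd_card h3T (Subgroup.isComplement'_top_left.mp hcompl)

/-- Groups with the prime graph of `PSL(2, 2^m)`, `m ≥ 4`. -/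
theorem of_graph_psl {G : Type u} [Group G] [Finite G] (hm : 4 ≤ m) (hF : Fintype.card F = 2 ^ m)
    (hdiv : ∀ r : ℕ, r.Prime → (r ∣ Nat.card (Matrix.ProjectiveSpecialLinearGroup (Fin 2) F) ↔ r ∣ Nat.card G))
    (hadj : ∀ r s : ℕ, r.Prime → s.Prime → r ≠ s →
      ((∃ x : Matrix.ProjectiveSpecialLinearGroup (Fin 2) F, orderOf x = r * s) ↔
        (∃ y : G, orderOf y = r * s))) :
    Nonempty (G ⧸ Cfsg.pCore 2 G ≃* Matrix.ProjectiveSpecialLinearGroup (Fin 2) F) := by
  have hS := card_psl_two_pow (by omega) hF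
  have hord := psl_even_orders (by omega) hF
  have h16 : 16 ≤ 2 ^ m := le_trans (by norm_num) (Nat.pow_le_pow_right two_pos hm)
  have hoddm : Odd (2 ^ m - 1) := Nat.Even.sub_odd (by omega) (Nat.even_pow.2 ⟨even_two, by omega⟩) odd_one
  have hoddp : Odd (2 ^ m + 1) := Even.add_one (Nat.even_pow.2 ⟨even_two, by omega⟩)
  have hsq : 2 ^ (2 * m) - 1 = (2 ^ m + 1) * (2 ^ m - 1) := by
    rw [← Nat.sq_sub_sq, one_pow, ← pow_mul, mul_comm m]
  obtain ⟨r, hr, hrd⟩ := Nat.exists_prime_and_dvd (n := 2 ^ m - 1) (by omega)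
  obtain ⟨s, hs, hsd⟩ := Nat.exists_prime_and_dvd (n := 2 ^ m + 1) (by omega)
  have hr2 : r ≠ 2 := fun e => Nat.not_even_iff_odd.2 hoddm (even_iff_two_dvd.2 (e ▸ hrd))
  have hs2 : s ≠ 2 := fun e => Nat.not_even_iff_odd.2 hoddp (even_iff_two_dvd.2 (e ▸ hsd))
  have hcop : ∀ p : ℕ, p.Prime → p ∣ 2 ^ m - 1 → p ∣ 2 ^ m + 1 → False := fun p hp h1 h2 => by
    have h3 := Nat.dvd_sub h2 h1
    rw [show 2 ^ m + 1 - (2 ^ m - 1) = 2 by omega] at h3
    rw [(Nat.prime_dvd_prime_iff_eq hp Nat.prime_two).1 h3] at h1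
    exact Nat.not_even_iff_odd.2 hoddm (even_iff_two_dvd.2 h1)
  obtain ⟨hX, T, hTn, k, hTs, hTna, hl, hk, hπ⟩ := reduce_of_graph hdiv hadj (fun p hp hp2 x hx => by
      have : 2 * p ∈ Set.range (orderOf : Matrix.ProjectiveSpecialLinearGroup (Fin 2) F → ℕ) := ⟨x, hx⟩
      rw [hord] at this
      rcases this with h | h | h
      · have := Nat.le_of_dvd two_pos h; have := hp.two_le; omega
      · exact Nat.not_even_iff_odd.2 hoddm (even_iff_two_dvd.2 ((dvd_mul_right 2 p).trans h))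
      · exact Nat.not_even_iff_odd.2 hoddp (even_iff_two_dvd.2 ((dvd_mul_right 2 p).trans h)))
    (by rw [hS]; exact Dvd.dvd.mul_right (dvd_pow_self 2 (by omega)) _) hr hs hr2 hs2
    (fun e => hcop r hr hrd (e ▸ hsd))
    (by rw [hS, hsq]; exact Dvd.dvd.mul_left (hrd.mul_left _) _)
    (by rw [hS, hsq]; exact Dvd.dvd.mul_left (hsd.mul_right _) _)
    (fun x hx => by
      have : r * s ∈ Set.range (orderOf : Matrix.ProjectiveSpecialLinearGroup (Fin 2) F → ℕ) := ⟨x, hx⟩
      rw [hord] at this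
      rcases this with h | h | h
      · exact hr2 ((Nat.prime_dvd_prime_iff_eq hr Nat.prime_two).1 ((dvd_mul_right r s).trans h))
      · exact hcop s hs ((dvd_mul_left s r).trans h) hsd
      · exact hcop r hr hrd ((dvd_mul_right r s).trans h))
  haveI := hTs
  obtain ⟨l, hl', hld, hlmin⟩ := exists_primitive (n := 2 * m) (by omega) (by omega)
  have hl7 := seven_lt_of_primitive hl' (by omega) hld hlmin
  have hlT : l ∣ Nat.card T := (hπ l hl').1 (hS ▸ hld.mul_left _)
  have hnot : ∀ i, ¬ l ∣ 2 ^ i := fun i hi => by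
    have := Nat.le_of_dvd two_pos (hl'.dvd_of_dvd_pow hi); omega
  rcases hl with ⟨F', _, _, hc, ⟨e⟩⟩ | ⟨F', _, _, hF', ⟨e⟩⟩ | hsz
  · rcases hc with h9 | ⟨n, hn⟩ | ⟨hp, j, hj⟩
    · exfalso
      rw [Nat.card_congr e.toEquiv] at hlT
      obtain ⟨f⟩ := Cfsg.Agent.S0254.result h9
      rw [Nat.card_congr f.toEquiv, nat_card_alternatingGroup, Nat.card_fin] at hlT
      have : l ∣ Nat.factorial 6 := hlT.trans (Nat.div_dvd_of_dvd (Nat.dvd_factorial two_pos (by norm_num)))
      have := (hl'.dvd_factorial).1 this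
      omega
    · have h4 := four_le_of_iso hTna e
      have hn2 : 2 ≤ n := by
        by_contra h
        rw [hn] at h4
        interval_cases n <;> omega
      have hcT : Nat.card T = 2 ^ n * (2 ^ (2 * n) - 1) :=
        (Nat.card_congr e.toEquiv).trans (card_psl_two_pow (by omega) hn)
      rw [hcT] at hlT
      have hmn : 2 * m ∣ 2 * n :=
        dvd_of_primitive hl' (by omega) hld hlmin ((hl'.dvd_mul.1 hlT).resolve_left (hnot n))
      have hle : 2 * m ≤ 2 * n := Nat.le_of_dvd (by omega) hmn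
      obtain ⟨l', hl'', hld', hlmin'⟩ := exists_primitive (n := 2 * n) (by omega) (by omega)
      have h7' := seven_lt_of_primitive hl'' (by omega) hld' hlmin'
      have hnm : 2 * n ∣ 2 * m := by
        have := (hπ l' hl'').2 (hcT ▸ hld'.mul_left _)
        rw [hS] at this
        refine dvd_of_primitive hl'' (by omega) hld' hlmin' ((hl''.dvd_mul.1 this).resolve_left fun h => ?_)
        have := Nat.le_of_dvd two_pos (hl''.dvd_of_dvd_pow h)
        omega
      have hmn' : n = m := by have := Nat.le_of_dvd (by omega) hnm; omega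
      subst hmn'
      obtain ⟨φ⟩ : Nonempty (F' ≃+* F) := ⟨FiniteField.ringEquivOfCardEq (hn.trans hF.symm)⟩
      exact equiv_of_eq_top (eq_top_of_psl hX T hTna hk (by omega) hn e)
        (e.trans (Cfsg.Lib.Dickson.pslEquiv φ))
    · exfalso
      have h4 := four_le_of_iso hTna e
      rcases j with _ | j
      · rw [pow_zero] at hj; omega
      have hj1 : 1 ≤ j := by
        by_contra h
        interval_cases j
        norm_num at hj
        omega
      set P := Fintype.card F' with hP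
      have hP2 : P % 2 = 1 := by rw [pow_succ] at hj; omega
      have hcT : 2 * Nat.card T = P * ((P + 1) * (P - 1)) := by
        rw [Nat.card_congr e.toEquiv]
        have h1 := Cfsg.Lib.Linear.Two.card_PSL_two (F := F')
        rw [Nat.gcd_eq_left (show 2 ∣ Fintype.card F' - 1 by omega)] at h1
        rw [h1, ← hP, ← Nat.sq_sub_sq, one_pow]
      have hPT : P ∣ Nat.card T := by
        refine (Nat.Coprime.dvd_of_dvd_mul_left (Nat.coprime_two_right.2 (Nat.odd_iff.2 hP2)) ?_)
        rw [hcT]; exact dvd_mul_right _ _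
      have hPm : P ∣ 2 ^ (2 * m) - 1 := by
        have := (hπ P hp).2 hPT
        rw [hS] at this
        refine (hp.dvd_mul.1 this).resolve_left fun h => ?_
        have := (Nat.prime_dvd_prime_iff_eq hp Nat.prime_two).1 (hp.dvd_of_dvd_pow h)
        omega
      have hcases : l ∣ P ∨ l ∣ P + 1 ∨ l ∣ P - 1 := by
        rcases hl'.dvd_mul.1 (hcT ▸ hlT.mul_left 2) with h | h
        · exact Or.inl h
        · exact Or.inr (hl'.dvd_mul.1 h)
      have hpj : 2 ^ (j + 1) = 2 * 2 ^ j := by rw [pow_succ]; ring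
      have hlodd : ∀ {a : ℕ}, l ∣ 2 * a → l ∣ a := fun {a} h =>
        (hl'.dvd_mul.1 h).resolve_left fun h2 => hnot 1 (by rwa [pow_one])
      rcases hj with hj | hj
      · -- `P = 2^(j+1) + 1`
        have hsqj : 2 ^ (2 * (j + 1)) - 1 = P * (2 ^ (j + 1) - 1) := by
          rw [hj, ← Nat.sq_sub_sq, one_pow, ← pow_mul, mul_comm (j + 1)]
        have hPprim : ∀ i, 0 < i → i < 2 * (j + 1) → ¬ P ∣ 2 ^ i - 1 := by
          intro i hi hlt hd
          have hd' : P ∣ 2 ^ ((2 * (j + 1)).gcd i) - 1 := by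
            rw [← Nat.pow_sub_one_gcd_pow_sub_one]
            exact Nat.dvd_gcd (hsqj ▸ dvd_mul_right _ _) hd
          have hle : (2 * (j + 1)).gcd i ≤ j + 1 := by
            obtain ⟨c, hc⟩ := Nat.gcd_dvd_left (2 * (j + 1)) i
            have hgi := Nat.le_of_dvd hi (Nat.gcd_dvd_right (2 * (j + 1)) i)
            rcases c with _ | _ | c
            · omega
            · omega
            · rw [hc] at hlt
              nlinarith
          have h1 := Nat.pow_le_pow_right (show 0 < 2 by norm_num) hle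
          have h2 : 2 ≤ 2 ^ ((2 * (j + 1)).gcd i) :=
            Nat.le_self_pow (Nat.gcd_pos_of_pos_right _ hi).ne' 2
          have := Nat.le_of_dvd (by omega) hd'
          omega
        have hjm : 2 * (j + 1) ∣ 2 * m :=
          dvd_of_primitive hp (by omega) (hsqj ▸ dvd_mul_right _ _) hPprim hPm
        have hle := Nat.le_of_dvd (by omega) hjm
        rcases hcases with h | h | h
        · have hl1 : 2 * m ∣ 2 * (j + 1) := dvd_of_primitive hl' (by omega) hld hlmin
            (h.trans (hsqj ▸ dvd_mul_right _ _))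
          have hjm' : m = j + 1 := by have := Nat.le_of_dvd (by omega) hl1; omega
          subst hjm'
          have hj5 : j + 1 ≠ 6 := fun h6 => by
            rw [hj, h6] at hp; norm_num at hp
          obtain ⟨w, hw, hwd, hwmin⟩ := exists_primitive (n := j + 1) (by omega) hj5
          have hwS : w ∣ Nat.card (Matrix.ProjectiveSpecialLinearGroup (Fin 2) F) := by
            rw [hS, hsq]; exact Dvd.dvd.mul_left (hwd.mul_left _) _
          have hw2 : w ≠ 2 := fun e => Nat.not_even_iff_odd.2 hoddm (even_iff_two_dvd.2 (e ▸ hwd))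
          have hwT := hcT ▸ ((hπ w hw).1 hwS).mul_left 2
          rcases hw.dvd_mul.1 hwT with h' | h'
          · rw [(Nat.prime_dvd_prime_iff_eq hw hp).1 h'] at hwd
            have := Nat.le_of_dvd (by omega) hwd
            omega
          · rcases hw.dvd_mul.1 h' with h'' | h''
            · have hwh : w ∣ 2 ^ j + 1 := by
                rw [hj, hpj, show 2 * 2 ^ j + 1 + 1 = 2 * (2 ^ j + 1) by ring] at h''
                exact (hw.dvd_mul.1 h'').resolve_left fun h2 =>
                  hw2 ((Nat.prime_dvd_prime_iff_eq hw Nat.prime_two).1 h2)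
              have hsqj' : 2 ^ (2 * j) - 1 = (2 ^ j + 1) * (2 ^ j - 1) := by
                rw [← Nat.sq_sub_sq, one_pow, ← pow_mul, mul_comm j]
              have := dvd_of_primitive hw (by omega) hwd hwmin (hsqj' ▸ hwh.mul_right _)
              have h22 : j + 1 ∣ 2 := by
                have h3 := Nat.dvd_sub (Dvd.intro_left 2 rfl : j + 1 ∣ 2 * (j + 1)) this
                rwa [show 2 * (j + 1) - 2 * j = 2 by omega] at h3
              have := Nat.le_of_dvd two_pos h22
              omega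
            · rw [hj, Nat.add_sub_cancel] at h''
              exact hw2 ((Nat.prime_dvd_prime_iff_eq hw Nat.prime_two).1 (hw.dvd_of_dvd_pow h''))
        · have hwh : l ∣ 2 ^ j + 1 := hlodd (by
            rwa [hj, hpj, show 2 * 2 ^ j + 1 + 1 = 2 * (2 ^ j + 1) by ring] at h)
          have hsqj' : 2 ^ (2 * j) - 1 = (2 ^ j + 1) * (2 ^ j - 1) := by
            rw [← Nat.sq_sub_sq, one_pow, ← pow_mul, mul_comm j]
          have hl1 := dvd_of_primitive hl' (by omega) hld hlmin (hsqj' ▸ hwh.mul_right _)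
          have := Nat.le_of_dvd (by omega) hl1
          omega
        · rw [hj, Nat.add_sub_cancel] at h
          exact hnot _ h
      · -- `P = 2^(j+1) - 1`
        have hP' : P = 2 ^ (j + 1) - 1 := by omega
        have hPprim : ∀ i, 0 < i → i < j + 1 → ¬ P ∣ 2 ^ i - 1 := by
          intro i hi hlt hd
          have h1 := Nat.pow_lt_pow_right (show 1 < 2 by norm_num) hlt
          have h2 : 2 ≤ 2 ^ i := Nat.le_self_pow hi.ne' 2
          have := Nat.le_of_dvd (by omega) hd
          omega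
        have hjm : j + 1 ∣ 2 * m := dvd_of_primitive hp (by omega) (hP' ▸ dvd_rfl) hPprim hPm
        have hle := Nat.le_of_dvd (by omega) hjm
        rcases hcases with h | h | h
        · have hl1 := dvd_of_primitive hl' (by omega) hld hlmin (hP' ▸ h)
          have hjm' : j + 1 = 2 * m := by have := Nat.le_of_dvd (by omega) hl1; omega
          have h3 : 3 ∣ P := by
            rw [hP', hjm', pow_mul]
            have h' := Nat.sub_dvd_pow_sub_pow (2 ^ 2) 1 m
            rw [one_pow] at h'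
            exact h'
          have := (Nat.prime_dvd_prime_iff_eq Nat.prime_three hp).1 h3
          rw [hjm'] at hj
          have : 2 ^ 8 ≤ 2 ^ (2 * m) := Nat.pow_le_pow_right two_pos (by omega)
          omega
        · rw [hj] at h; exact hnot _ h
        · have hwh : l ∣ 2 ^ j - 1 := hlodd (by
            rwa [hP', hpj, show 2 * 2 ^ j - 1 - 1 = 2 * (2 ^ j - 1) by omega] at h)
          have hl1 := dvd_of_primitive hl' (by omega) hld hlmin hwh
          have := Nat.le_of_dvd (by omega) hl1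
          omega
  · exfalso
    rw [Nat.card_congr e.toEquiv, Cfsg.Lib.Concrete.MTwentyOne.card_psl34 F' hF'] at hlT
    have : l ∣ Nat.factorial 8 := hlT.trans (by decide)
    have := (hl'.dvd_factorial).1 this
    have h8 : l ≠ 8 := fun e => by rw [e] at hl'; norm_num at hl'
    omega
  · exfalso
    obtain ⟨-, m', -, hc⟩ := hsz
    have h3 := (hπ 3 Nat.prime_three).1 (three_dvd_card_psl_two_pow (by omega) hF)
    exact not_three_dvd_suzuki m' (hc ▸ h3)

end PSL

end Cfsg.Lib.CIT.Isolated
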